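import Cfsg.Agent.OC.Def
import Cfsg.Agent.MC.PFb

/-! More facts on `L₂(q)` and `L₃(4)` (see `notes/oc_plan.md`). -/

set_option autoImplicit false
set_option linter.unusedSectionVars false

namespace Cfsg.Agent.MC.PF

open Subgroup Cfsg.Agent.FT Cfsg.Agent.H1
open scoped MatrixGroups

variable {F : Type} [Field F] {x : SL(2, F)}

theorem cube_of_tr (h : tr x = 1) : x * x * x = -1 := by
  have d := det2 x
  simp only [tr] at h
  simp only [ext2, mul2, neg2, one2]
  refine ⟨?_, ?_, ?_, ?_⟩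
  · linear_combination (x 0 0 * (x 0 0 + x 1 1 + 1) - 1) * h - (2 * x 0 0 + x 1 1) * d
  · linear_combination (x 0 1 * (x 0 0 + x 1 1 + 1)) * h - x 0 1 * d
  · linear_combination (x 1 0 * (x 0 0 + x 1 1 + 1)) * h - x 1 0 * d
  · linear_combination (x 1 1 * (x 0 0 + x 1 1 + 1) - 1) * h - (2 * x 1 1 + x 0 0) * d
theorem tr_of_three (h : orderOf (pr x) = 3) : tr x ^ 2 = 1 := by
  have h1 : pr x ≠ 1 := fun e => by simp [e] at h
  have e := pow_orderOf_eq_one (pr x)
  have d := det2 x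
  rw [h, pow_three', ← map_mul, ← map_mul, pr_eq_one, mem_cen] at e
  simp only [ext2, mul2, neg2, one2] at e
  by_contra k
  have k0 := sub_ne_zero.2 k
  simp only [tr] at k0
  refine h1 (pr_eq_one.2 (mem_center_iff.2 fun g => ?_))
  have k1 : x 0 1 = 0 := mul_left_cancel₀ k0 (by
    rcases e with e | e <;> linear_combination e.2.1 + x 0 1 * d)
  have k2 : x 1 0 = 0 := mul_left_cancel₀ k0 (by
    rcases e with e | e <;> linear_combination e.2.2.1 + x 1 0 * d)
  have k3 : x 0 0 = x 1 1 := mul_left_cancel₀ k0 (by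
    rcases e with e | e <;> linear_combination e.1 - e.2.2.2 + (x 0 0 - x 1 1) * d)
  simp only [ext2, mul2, k1, k2, k3]
  refine ⟨?_, ?_, ?_, ?_⟩ <;> ring

end Cfsg.Agent.MC.PF

namespace Cfsg.Agent.OC

open Subgroup Cfsg.Agent.MC Cfsg.Agent.MC.PF Cfsg.Agent.FT Cfsg.Agent.H1
open scoped MatrixGroups

universe u
variable {G : Type u} [Group G] [Finite G] {F : Type} [Field F] [Fintype F]

theorem F7 [CharP F 2] (Q : Sylow 2 (L2 F)) {w : L2 F} (h : w * w = 1)
    (hw : w ∉ normalizer ((Q : Subgroup (L2 F)) : Set (L2 F))) :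
    ∃ s ∈ (Q : Subgroup (L2 F)), s ≠ 1 ∧ orderOf (s * w) = 3 := by
  obtain ⟨z, e⟩ := exists_cj Q
  rw [← e, ← cj_normalizer, mem_cj] at hw
  obtain ⟨g, k⟩ := pr_surj (z⁻¹ * w * z)
  obtain rfl : _ = z * pr g * z⁻¹ := by rw [k, ← mul_assoc, ← mul_assoc, mul_inv_cancel, one_mul,
    mul_inv_cancel_right]
  rw [← k, mem_NU] at hw
  rw [conj_mul, conj_eq_one_iff, ← map_mul, pr_eq_one, mem_cen] at h
  have t : g 0 0 + g 1 1 = 0 := mul_left_cancel₀ hw (by
    rcases h with h | h <;> have := (ext2.1 h).2.2.1 <;> simp only [mul2, neg2, one2] at this <;>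
      linear_combination this)
  refine ⟨_, e ▸ conj_mem_cj (u_mem (g 1 0)⁻¹), fun j => inv_ne_zero hw ?_, ?_⟩
  · rw [← th_u (g 1 0)⁻¹, conj_eq_one_iff.1 j, ← map_one pr, th_pr, one2.2.1, mul_zero]
  rw [conj_mul, ← map_mul]
  refine ((MulAut.conj z).orderOf_eq _).trans (orderOf_eq_prime ?_ fun j => hw ?_)
  · rw [pow_three', ← map_mul, ← map_mul, cube_of_tr (by
      simp only [tr, mul2, uX2]; linear_combination t + inv_mul_cancel₀ hw), pr_neg, map_one]
  · simpa [mul2, uX2] using (pr_mem_U.1 (j.symm ▸ one_mem (uH F).range :)).1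
theorem F8 [CharP F 2] : OneCl (L2 F) ∧ ∀ x y : L2 F, orderOf x = 3 → orderOf y = 3 → IsConj x y := by
  have h2 : (2 : F) = 0 := CharTwo.two_eq_zero
  constructor
  · have k : ∀ t : L2 F, orderOf t = 2 → IsConj (pr (H8.uX 1)) t := fun t ht => by
      obtain ⟨Q, hQ⟩ := (isPGroup_of_card_prime ((Nat.card_zpowers t).trans ht)).exists_le_sylow
      obtain ⟨z, e⟩ := exists_cj Q
      obtain ⟨a, k⟩ := mem_U.1 (mem_cj.1 (e.ge (hQ (mem_zpowers t))))
      obtain ⟨b, rfl⟩ := FiniteField.isSquare_of_char_two (ringChar.eq F 2) a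
      have b0 : b ≠ 0 := fun j => by
        rw [j, mul_zero, H8.uX_zero, map_one, eq_comm, mul_assoc, inv_mul_eq_one, right_eq_mul] at k
        simp [k] at ht
      have k1 := conj_u (g := D (Units.mk0 b b0)) rfl 1
      rw [mul_one, sq] at k1
      refine isConj_iff.2 ⟨z * pr (D (Units.mk0 b b0)), ?_⟩
      have k2 := (congrArg pr k1).trans k
      rw [map_mul, map_mul, map_inv] at k2
      rw [mul_inv_rev, ← mul_assoc, mul_assoc z, mul_assoc z, k2]
      group
    exact fun t u ht hu => (k t ht).symm.trans (k u hu)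
  intro x y hx hy
  obtain ⟨x, rfl⟩ := pr_surj x
  obtain ⟨y, rfl⟩ := pr_surj y
  have k : ∀ x : SL(2, F), orderOf (pr x) = 3 → tr x = 1 := fun x hx =>
    sub_eq_zero.1 (pow_eq_zero_iff two_ne_zero |>.1 (by
      linear_combination tr_of_three hx + (1 - tr x) * h2))
  obtain ⟨P, e⟩ := conj_of_tr (fun j => one_ne_zero (α := F) (by
    rw [k x hx] at j; linear_combination j + 2 * h2)) ((k y hy).trans (k x hx).symm)
  exact isConj_iff.2 ⟨pr P, by rw [← e, map_mul, map_mul, map_inv]⟩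
/-- the normalizer of a two-point stabilizer -/
theorem F9 [CharP F 2] (h : 4 ≤ Fintype.card F) (Q : Sylow 2 (L2 F)) : ∃ (k w : L2 F),
    orderOf k + 1 = Fintype.card F ∧ k ∈ normalizer ((Q : Subgroup (L2 F)) : Set (L2 F)) ∧
    normalizer ((Q : Subgroup (L2 F)) : Set (L2 F)) = (Q : Subgroup (L2 F)) ⊔ zpowers k ∧
    (∀ s ∈ (Q : Subgroup (L2 F)), ∀ s' ∈ (Q : Subgroup (L2 F)), s ≠ 1 → s' ≠ 1 →
      ∃ c ∈ zpowers k, c * s * c⁻¹ = s') ∧
    w * w = 1 ∧ w * k * w⁻¹ = k⁻¹ ∧ w ∉ normalizer ((Q : Subgroup (L2 F)) : Set (L2 F)) := by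
  obtain ⟨z, e⟩ := exists_cj Q
  obtain ⟨u, hu⟩ := IsCyclic.exists_generator (α := Fˣ)
  have hi : Function.Injective (pr.comp (D : Fˣ →* SL(2, F))) := fun a b j => D_inj (by
    simpa only [MonoidHom.comp_apply, pr_eq, neg_eq (CharTwo.two_eq_zero (R := F)), or_self] using j)
  have hD : ∀ v : Fˣ, pr (D v) ∈ zpowers (pr (D u)) := fun v => by
    obtain ⟨i, rfl⟩ := hu v
    exact ⟨i, by simp only [map_zpow]⟩
  have hz : zpowers (z * pr (D u) * z⁻¹) = cj z (zpowers (pr (D u))) :=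
    (MonoidHom.map_zpowers (MulAut.conj z).toMonoidHom _).symm
  rw [← e, ← cj_normalizer]
  refine ⟨z * pr (D u) * z⁻¹, z * pr (W 0) * z⁻¹, ?_, conj_mem_cj (mem_NU.2 rfl), ?_,
    fun s hs s' hs' s1 s1' => ?_, ?_, ?_, fun k => ?_⟩
  · rw [← Nat.card_eq_fintype_card, Nat.card_eq_card_units_add_one,
      ← orderOf_eq_card_of_forall_mem_zpowers hu, ← orderOf_injective _ hi]
    exact congrArg (· + 1) ((MulAut.conj z).orderOf_eq _)
  · rw [hz, ← cj_sup]
    refine congrArg _ (le_antisymm (fun g hg => ?_) (sup_le le_normalizer (zpowers_le.2 (mem_NU.2 rfl))))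
    obtain ⟨g, rfl⟩ := pr_surj g
    have k := mem_NU.1 hg
    have d := det2 g
    rw [k, mul_zero, sub_zero] at d
    have k1 := mul_mem (mem_sup_left ((pr_mem_U (g := g * (D ⟨_, _, d, (mul_comm _ _).trans d⟩)⁻¹)).2 (by
      simp only [mul2, inv2, D2, k]; simp [mul_comm])))
      (mem_sup_right (S := (uH F).range) (hD ⟨_, _, d, (mul_comm _ _).trans d⟩))
    rwa [← map_mul, inv_mul_cancel_right] at k1
  · obtain ⟨a, k⟩ := mem_U.1 (mem_cj.1 hs)
    obtain ⟨a', k'⟩ := mem_U.1 (mem_cj.1 hs')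
    have n : ∀ (a : F) (s : L2 F), pr (H8.uX a) = z⁻¹ * s * z → s ≠ 1 → a ≠ 0 := fun a s k s1 j => by
      rw [j, H8.uX_zero, map_one, eq_comm, mul_assoc, inv_mul_eq_one, right_eq_mul] at k
      exact s1 k
    obtain ⟨b, hb⟩ := FiniteField.isSquare_of_char_two (ringChar.eq F 2) (a' / a)
    have b0 : b ≠ 0 := fun j => div_ne_zero (n a' s' k' s1') (n a s k s1) (by rw [hb, j, mul_zero])
    refine ⟨_, hz ▸ conj_mem_cj (hD (Units.mk0 b b0)), ?_⟩
    have k1 := congrArg pr (conj_u (g := D (Units.mk0 b b0)) rfl a)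
    rw [map_mul, map_mul, map_inv, k, show D (Units.mk0 b b0) 0 0 = b from rfl, sq, ← hb,
      div_mul_cancel₀ _ (n a s k s1), k'] at k1
    rw [show s' = z * (z⁻¹ * s' * z) * z⁻¹ by group, ← k1]
    group
  · rw [conj_mul, ← map_mul, sq_of_tr (tr_W 0), pr_neg, map_one, mul_one, mul_inv_cancel]
  · have e1 : W (0 : F) * D u * (W 0)⁻¹ = (D u)⁻¹ := by
      simp only [mul_inv_eq_iff_eq_mul, ext2, mul2, W2, D2, inv2]; simp
    rw [conj_inv, conj_inv, conj_mul, conj_mul, ← map_inv, ← map_mul, ← map_mul, e1, map_inv]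
  · exact one_ne_zero (mem_NU.1 (conj_mem_cj_iff.1 k))

theorem F34 (h : L34 G) : ∃ a b : G, orderOf a = 3 ∧ orderOf b = 3 ∧ a * b = b * a ∧ b ∉ zpowers a := by
  obtain ⟨F, _, _, h, ⟨e⟩⟩ := h
  obtain ⟨u, hu⟩ := IsCyclic.exists_ofOrder_eq_natCard (α := Fˣ)
  rw [Nat.card_units, Nat.card_eq_fintype_card, h] at hu
  have u3 : (u : F) ^ 3 = 1 := by rw [← Units.val_pow_eq_pow_val, ← show _ = 3 from hu, pow_orderOf_eq_one]; rfl
  have u1 : (u : F) ≠ 1 := fun k => by simp [Units.val_eq_one.1 k] at hu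
  generalize (u : F) = w at *
  let a : SL(3, F) := ⟨!![1, 0, 0; 0, w, 0; 0, 0, w ^ 2], by
    simp [Matrix.det_fin_three]; linear_combination u3⟩
  let b : SL(3, F) := ⟨!![0, 0, 1; 1, 0, 0; 0, 1, 0], by simp [Matrix.det_fin_three]⟩
  let c : SL(3, F) := ⟨!![w, 0, 0; 0, w, 0; 0, 0, w], by
    simp [Matrix.det_fin_three]; linear_combination u3⟩
  have a1 : a.1 = !![1, 0, 0; 0, w, 0; 0, 0, w ^ 2] := rfl
  have b1 : b.1 = !![0, 0, 1; 1, 0, 0; 0, 1, 0] := rfl
  have c1 : c.1 = !![w, 0, 0; 0, w, 0; 0, 0, w] := rfl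
  let π : SL(3, F) →* Matrix.ProjectiveSpecialLinearGroup (Fin 3) F := QuotientGroup.mk' _
  have k : ∀ x y : SL(3, F), π x = π y → ∃ r : F, ∀ i j, y.1 i j = x.1 i j * r := fun x y k => by
    obtain ⟨z, hz, rfl⟩ := (QuotientGroup.mk'_eq_mk' _).1 k
    obtain ⟨r, -, hr⟩ := Matrix.SpecialLinearGroup.mem_center_iff.1 hz
    exact ⟨r, fun i j => by rw [Matrix.SpecialLinearGroup.coe_mul, ← hr]; simp⟩
  have hc : π c = 1 := (QuotientGroup.eq_one_iff c).2 (Matrix.SpecialLinearGroup.mem_center_iff.2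
    ⟨w, by simpa using u3, by rw [c1]; ext i j; fin_cases i <;> fin_cases j <;> simp⟩)
  have a3 : a ^ 3 = 1 := Subtype.ext (by
    rw [Matrix.SpecialLinearGroup.coe_pow, a1, pow_three, Matrix.mul_fin_three, Matrix.mul_fin_three,
      Matrix.SpecialLinearGroup.coe_one, Matrix.one_fin_three]
    simp only [mul_zero, zero_mul, add_zero, zero_add, mul_one]
    rw [show w * (w * w) = 1 by linear_combination u3,
      show w ^ 2 * (w ^ 2 * w ^ 2) = 1 by linear_combination (w ^ 3 + 1) * u3])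
  have b3 : b ^ 3 = 1 := Subtype.ext (by
    rw [Matrix.SpecialLinearGroup.coe_pow, b1, pow_three, Matrix.mul_fin_three, Matrix.mul_fin_three,
      Matrix.SpecialLinearGroup.coe_one, Matrix.one_fin_three]
    simp)
  have ab : a * b = c * (b * a) := Subtype.ext (by
    simp only [Matrix.SpecialLinearGroup.coe_mul, a1, b1, c1, Matrix.mul_fin_three, mul_zero, zero_mul,
      add_zero, zero_add, mul_one, one_mul]
    rw [show w * w ^ 2 = 1 by linear_combination u3, ← sq])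
  have nb : π b ∉ zpowers (π a) := fun j => by
    obtain ⟨n, j⟩ := mem_powers_iff_mem_zpowers.2 j
    obtain ⟨r, j⟩ := k _ _ ((map_pow π a n).trans j)
    have z : ∀ n : ℕ, (a ^ n).1 1 0 = 0 := fun n => by
      induction n with
      | zero => simp
      | succ n ih =>
        rw [pow_succ, Matrix.SpecialLinearGroup.coe_mul, a1, Matrix.mul_apply, Fin.sum_univ_three, ih]
        simp
    have j1 := j 1 0
    rw [z, b1] at j1
    simp at j1
  refine ⟨e.symm (π a), e.symm (π b), (e.symm.orderOf_eq _).trans (orderOf_eq_prime ?_ fun j => ?_),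
    (e.symm.orderOf_eq _).trans (orderOf_eq_prime ?_ fun j => nb (j ▸ one_mem _)), ?_, fun j => nb ?_⟩
  · rw [← map_pow, a3, map_one]
  · obtain ⟨r, j⟩ := k a 1 (j.trans (map_one π).symm)
    have j0 := j 0 0
    have j1 := j 1 1
    simp [a1] at j0 j1
    exact u1 (by rw [← j0, mul_one] at j1; exact j1.symm)
  · rw [← map_pow, b3, map_one]
  · simp only [← map_mul]
    rw [ab, map_mul π c, hc, one_mul]
  · obtain ⟨i, j⟩ := j
    exact ⟨i, e.symm.injective (by simpa only [map_zpow] using j)⟩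

end Cfsg.Agent.OC
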