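import Cfsg.Agent.OC.A2
import Cfsg.Agent.S0214
import Cfsg.Agent.S0111
import Cfsg.Agent.BW.Main
import Cfsg.Agent.H1.Replacement

/-! Pieces A3, A4: pushing up in CIT-groups. -/

set_option autoImplicit false
set_option linter.unusedSectionVars false

namespace Cfsg.Agent.OC

open Subgroup Cfsg.Agent.FT Cfsg.Agent.MC

universe u
variable {G : Type u} [Group G] [Finite G]

theorem A3 (hc : CIT G) (hO : pCore 2 G = ⊥) (hi : IH2 G) (he : Even (Nat.card G)) :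
    (∃ M : Subgroup G, IsStronglyEmbedded M) ∨ ∃ (V A : Subgroup G) (q : ℕ), Cf V A q ∧ FT.Syl 2 (V ⊔ A) ⊤ ∧
      ((q = 2 ∧ ∃ ρ ∈ normalizer (V : Set G), orderOf ρ = 3) ∨ Lc (normalizer (V : Set G)) V q) := by
  obtain ⟨S, hS⟩ := exists_syl 2 (⊤ : Subgroup G)
  have S0 := hS.ne_bot (card_top (G := G) ▸ he.two_dvd)
  have J0 : ∀ T : Subgroup G, IsPGroup 2 T → T ≠ ⊥ → H1.JJ 2 T ≠ ⊥ := fun T => H1.JJ_ne_bot (.inr rfl)
  have SM : S ≤ 𝐍(H1.JJ 2 S) := H1.le_normalizer_JJ S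
  have hM := hS.of_le SM le_top
  by_cases h0 : ∀ Q ≤ 𝐍(H1.JJ 2 S), IsPGroup 2 Q → Q ≠ ⊥ → 𝐍(Q) ≤ 𝐍(H1.JJ 2 S)
  · refine .inl ⟨_, (S0214.result _ (fun e => J0 S hS.isPGroup S0 (eq_bot_iff.2 (hO ▸ le_sSup
      ⟨normalizer_eq_top_iff.1 e, hS.isPGroup.to_le (H1.JJ_le S)⟩))) hM.toSylow
      fun e => S0 (by rw [← hM.map_toSylow, e, Subgroup.map_bot])).2 fun X h1 h2 =>
        h0 _ (map_subtype_le X) ((hM.toSylow.isPGroup'.to_le h1).map _)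
          (by rwa [Ne, map_eq_bot_iff_of_injective _ (subtype_injective _)])⟩
  right
  generalize hMd : 𝐍(H1.JJ 2 S) = M at h0 hM SM
  push Not at h0
  obtain ⟨⟨Q, T⟩, ⟨q1, q2, q3, q4, q5⟩, hmax⟩ := Set.exists_max_image
    {x : Subgroup G × Subgroup G | x.1 ≤ M ∧ IsPGroup 2 x.1 ∧ x.1 ≠ ⊥ ∧ ¬ 𝐍(x.1) ≤ M ∧ Syl 2 x.2 (M ⊓ 𝐍(x.1))}
    (fun x => ♯x.2) (Set.toFinite _) (by
      obtain ⟨Q, h1⟩ := h0
      obtain ⟨T, h2⟩ := exists_syl 2 (M ⊓ 𝐍(Q))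
      exact ⟨(Q, T), h1.1, h1.2.1, h1.2.2.1, h1.2.2.2, h2⟩)
  obtain ⟨Q, T, q1, q2, q3, q4, q5, TS, hmax⟩ : ∃ Q T : Subgroup G, Q ≤ M ∧ IsPGroup 2 Q ∧ Q ≠ ⊥ ∧ ¬ 𝐍(Q) ≤ M ∧
      Syl 2 T (M ⊓ 𝐍(Q)) ∧ T ≤ S ∧ ∀ C ≤ S, C ≠ ⊥ → ∀ R ≤ S ⊓ 𝐍(C), T < R → 𝐍(C) ≤ M := by
    obtain ⟨m, hm, e⟩ := hM.exists_cj_le q5.isPGroup (q5.le.trans inf_le_left)
    refine ⟨cj m Q, cj m T, cj_le_of_le hm q1, isPGroup_cj m q2, cj_eq_bot_iff.not.2 q3, ?_, ?_, e,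
      fun C c1 c2 R r1 r2 => by_contra fun c3 => ?_⟩
    · rwa [← cj_normalizer, ← cj_eq_of_mem hm, cj_le_cj_iff]
    · simpa only [cj_inf, cj_normalizer, cj_eq_of_mem hm] using q5.cj m
    obtain ⟨R', r3, r4⟩ := exists_syl_ge (hS.isPGroup.to_le (r1.trans inf_le_left))
      (r1.trans (inf_le_inf_right _ SM))
    have := hmax (C, R') ⟨c1.trans SM, hS.isPGroup.to_le c1, c2, c3, r3⟩
    exact (card_lt_of_lt (r2.trans_le r4)).not_ge (card_cj m T ▸ this)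
  have QT : Q ≤ T := q5.le_of_normal q2 (le_inf q1 le_normalizer) inf_le_right
  have T0 : T ≠ ⊥ := ne_bot_of_le_ne_bot q3 QT
  have a1 : ∀ C ≤ T, C ≠ ⊥ → 𝐍(T) ≤ 𝐍(C) → (T = S → 𝐍(C) ≤ M) → 𝐍(C) ≤ M := fun C c1 c2 c3 c4 =>
    TS.eq_or_lt.elim c4 fun c5 => hmax C (c1.trans TS) c2 _ (inf_le_inf_left _ c3)
      (H1.lt_inf_normalizer_of_isPGroup hS.isPGroup c5)
  have a2 := a1 T le_rfl T0 le_rfl fun e => e ▸ hMd ▸ H1.normalizer_le_normalizer_JJ S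
  have a3 := a1 _ (H1.JJ_le T) (J0 T q5.isPGroup T0) (H1.normalizer_le_normalizer_JJ T)
    fun e => e ▸ hMd.le
  have a4 : Syl 2 T 𝐍(Q) := q5.of_normalizer_le inf_le_right (le_inf (inf_le_right.trans a2) inf_le_left)
  have a5 : 𝐍(Q) ≤ 𝐍(core {2} 𝐍(Q)) := (core_nrm _ _).norm
  obtain ⟨A, ⟨b1, b2, b3⟩, b4⟩ : ∃ A ∈ H1.maxAb 2 T, ¬ A ≤ core {2} 𝐍(Q) := by
    by_contra! b1
    exact q4 ((a5.trans (H1.normalizer_le_normalizer_JJ (n := 2) _)).trans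
      (H1.JJ_eq_of_le (H1.JJ_le_iff.2 b1) (core_le_syl a4) ▸ a3))
  have D0 : core {2} 𝐍(Q) ≠ ⊥ := ne_bot_of_le_ne_bot q3 (le_pcore ⟨le_normalizer, le_rfl⟩ q2)
  have key : ∀ H, Syl 2 T H → 𝐍(Q) ≤ H → core {2} H = core {2} 𝐍(Q) → ∃ q, Cf (core {2} 𝐍(Q)) A q ∧
      T = core {2} 𝐍(Q) ⊔ A ∧ ((q = 2 ∧ ∃ ρ ∈ H, orderOf ρ = 3) ∨ Lc H (core {2} 𝐍(Q)) q) :=
    fun H c1 c2 c3 => by
    have c4 : pCore 2 H ≠ ⊥ := fun e => D0 (by rw [← c3, core_singleton_eq, e, Subgroup.map_bot])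
    rw [← c3, core_singleton_eq] at b4 ⊢
    exact A2 hc c4 (hi H c4) c1 (fun e => q4 ((c2.trans e).trans a2)) b1 (fun x hx => sq x ▸ b2.2 x hx)
      (fun B c5 c6 => b3 B c5 ⟨H1.isMulCommutative_of_forall fun _ ha _ hb => comm_of_sq c6 ha hb,
        fun x hx => (sq x).trans (c6 x hx)⟩) b4
  obtain ⟨q, c1, c2, -⟩ := key _ a4 le_rfl rfl
  obtain rfl : T = S := by_contra fun e => by
    obtain ⟨y, y1, y2, y3⟩ : ∃ y ∈ S ⊓ 𝐍(T), y ∉ T ∧ y * y ∈ T := by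
      obtain ⟨y, y1, y2⟩ := SetLike.exists_of_lt
        (H1.lt_inf_normalizer_of_isPGroup hS.isPGroup (lt_of_le_of_ne TS e))
      by_cases y3 : y * y ∈ T
      · exact ⟨y, y1, y2, y3⟩
      · exact ⟨_, mul_mem y1 y1, y3, by
          rw [← sq, ← sq, ← pow_mul, a2_four hc hS.isPGroup y1.1]; exact one_mem _⟩
    have y4 := SW c1 (c2 ▸ y1.2) (c2 ▸ y3) fun s hs => a2_four hc hS.isPGroup (mul_mem y1.1 (TS (c2 ▸ hs)))
    exact q4 (a5.trans (hmax _ ((core_le_syl a4).trans TS) D0 (T ⊔ zpowers y)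
      (sup_le (le_inf TS (a4.le.trans a5)) (zpowers_le.2 ⟨y1.1, y4⟩))
      (left_lt_sup.2 fun e => y2 (e (mem_zpowers y)))))
  have d1 := hS.of_le (a4.le.trans a5) le_top
  obtain ⟨q, c1, c2, c3⟩ := key _ d1 a5 (le_antisymm (core_le_core_of_le a5 ((core_le_syl d1).trans a4.le))
    (le_pcore ⟨le_normalizer, le_rfl⟩ (core_isPGroup _)))
  exact ⟨_, A, q, c1, c2 ▸ hS, c3⟩

theorem A4 [IsSimpleGroup G] (hc : CIT G) {V A : Subgroup G} (h : Cf V A 2) (hS : FT.Syl 2 (V ⊔ A) ⊤) :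
    OneCl G ∧ (∃ x : G, orderOf x = 4) ∧ L79 G := by
  classical
  obtain ⟨v, v1, v2⟩ := h.ex
  obtain ⟨a, a1, a2⟩ := h.symm.ex
  have k0 : v * a ∈ V ⊔ A := mul_mem (mem_sup_left v1) (mem_sup_right a1)
  have k1 : v * a * (v * a) ≠ 1 := fun e => (h.invol k0 e).elim (fun e => a2 ((mul_mem_cancel_left v1).1 e))
    fun e => v2 ((mul_mem_cancel_right a1).1 e)
  have k2 : orderOf (v * a) = 4 := orderOf_eq_prime_pow (p := 2) (n := 1) (by rwa [pow_one, sq])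
    (a2_four hc hS.isPGroup k0)
  have iv := inv_eq_of_mul_eq_one_right (h.eV v v1)
  have ia := inv_eq_of_mul_eq_one_right (h.eA a a1)
  have z1 : v * a * (v * a) ∈ V := by
    simpa only [ia, mul_assoc] using mul_mem v1 (conj_mem_of_mem_normalizer (h.nV a1) v1)
  have z2 : v * a * (v * a) ∈ A := by
    simpa only [iv, mul_assoc] using mul_mem (conj_mem_of_mem_normalizer (h.nA v1) a1) a1
  have k3 : v * (v * a) * v⁻¹ = (v * a)⁻¹ := by rw [← mul_assoc, h.eV v v1, one_mul, mul_inv_rev, ia]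
  generalize v * a = k at k0 k1 k2 k3 z1 z2
  have z3 := H3.orderOf_two_of_mul_self (h.eV _ z1) k1
  have u1 : ∀ u ∈ zpowers k, orderOf u = 2 → u = k * k := fun u hu e => by
    obtain ⟨n, hn, rfl⟩ := (mem_zpowers_iff_mem_range_orderOf.1 hu |> Finset.mem_image.1)
    rw [Finset.mem_range, k2] at hn
    rw [orderOf_pow, k2] at e
    interval_cases n <;> simp_all [sq]
  have c1 : 𝐂[k * k] = V ⊔ A := hS.eq_of_le (fun x => ⟨2, Subtype.ext (by_contra fun e =>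
    k1 (a2_free hc (a2_odd hc e) (fun e' => e (by simp [e'])) (a2_four hc hS.isPGroup (mul_mem k0 k0))
      (mem_cent1_iff.1 x.2)))⟩) (sup_le (fun x hx => mem_cent1_iff.2 (comm_of_sq h.eV hx z1))
      fun x hx => mem_cent1_iff.2 (comm_of_sq h.eA hx z2)) le_top
  have KS := zpowers_le.2 k0
  have i2 : (zpowers k).relIndex (V ⊔ A) = 2 := by
    have := card_mul_relIndex KS
    rw [Nat.card_zpowers, k2, h.cS] at this
    omega
  have vK : v ∉ zpowers k := fun e =>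
    v2 (u1 v e (H3.orderOf_two_of_mul_self (h.eV v v1) (by rintro rfl; exact v2 (one_mem _))) ▸ z2)
  have o1 : ∀ u : G, orderOf u = 2 → IsConj (k * k) u := fun u hu => by
    obtain ⟨g, -, e⟩ := hS.exists_cj_le (H3.isPGroup_zpowers_of_orderOf_two hu) le_top
    have u2 := e (conj_mem_cj (mem_zpowers u))
    have u3 := (H3.orderOf_conj g u).trans hu
    refine IsConj.trans ?_ (isConj_iff.2 ⟨g, rfl⟩).symm
    generalize g * u * g⁻¹ = w at u2 u3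
    by_cases w1 : w ∈ zpowers k
    · rw [u1 w w1 u3]
    rcases S0111.result hS.toSylowTop _ KS i2 w u3 u2 w1 with ⟨M, m1, m2, m3⟩ | ⟨g, e⟩
    · rcases m1.eq_bot_or_eq_top with rfl | rfl
      · have := card_le_card_group (V ⊔ A)
        rw [h.cS, ← index_bot, m2] at this
        omega
      · exact (m3 (mem_top _)).elim
    · exact (isConj_iff.2 ⟨g, u1 _ e ((H3.orderOf_conj g w).trans u3)⟩).symm
  refine ⟨fun t u ht hu => (o1 t ht).symm.trans (o1 u hu), ⟨k, k2⟩, ?_⟩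
  obtain ⟨F, _, _, e, i⟩ := BW.main (K := zpowers k) (t := k * k) (s := v) ⟨z3, o1,
    mul_mem (mem_zpowers k) (mem_zpowers k), fun x hx y hy => H1.comm_of_isMulCommutative inferInstance hx hy,
    u1, by rw [Nat.card_zpowers, k2], h.eV v v1, vK, by
      rintro _ ⟨n, rfl⟩
      simp only [← conj_zpow, k3, inv_zpow], fun g => by
      rw [← mem_cent1_iff, c1]
      refine ⟨fun hg => or_iff_not_imp_left.2 fun e => (mul_mem_iff_of_index_two i2 (a := ⟨g, hg⟩)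
        (b := ⟨v, mem_sup_left v1⟩)).2 (iff_of_false e vK), fun e => e.elim (KS ·) fun e =>
          (mul_mem_cancel_right (mem_sup_left v1)).1 (KS e)⟩, fun x hx x1 g e => by
      by_cases x2 : x * x = 1
      · rwa [← u1 x hx (H3.orderOf_two_of_mul_self x2 x1)]
      · rw [← u1 _ (mul_mem hx hx) (H3.orderOf_two_of_mul_self (by
          rw [← sq, ← sq, ← pow_mul, a2_four hc hS.isPGroup (KS hx)]) x2)]
        exact ((show Commute g x from e).mul_right e).eq⟩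
  rw [Nat.card_zpowers, k2] at e
  exact ⟨F, _, _, by omega, i⟩

end Cfsg.Agent.OC
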