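import Cfsg.Agent.OC.SZT
import Cfsg.Agent.MC.BA
import Cfsg.Agent.FT.P.BG01

/-! Bender's theorem for CIT-groups; abelian Sylow 2-subgroups with solvable centralizers. -/

set_option autoImplicit false
set_option linter.unusedSectionVars false

namespace Cfsg.Agent.OC

open Subgroup Cfsg.Agent.FT Cfsg.Agent.MC

universe u
variable {G : Type u} [Group G] [Finite G]

theorem be_sz [IsSimpleGroup G] (hc : CIT G) {Q D K : Subgroup G} {t : G} (h : H7.SZ ⊤ Q D K t)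
    (hA : ¬ H7.Hig.Ab Q) : (∃ x : G, orderOf x = 4) ∧ SzD G := by
  obtain ⟨s, r, H⟩ := h.exists_dist
  have h4 := (nrm_top_iff.mp H.nrm).eq_bot_or_eq_top.resolve_left fun e => h.neQ (le_bot_iff.mp
    (le_sup_left.trans e.le))
  have hC : D ⊓ 𝐂(Q) = ⊥ := (nrm_top_iff.mp h.cent_nrm).eq_bot_or_eq_top.resolve_right fun e =>
    h.t_not (mem_sup_right (e.ge (mem_top t)).1)
  obtain ⟨F, _, _, _, c, rfl⟩ := h.suz.exists_coord' H.sZ H.ne
  obtain ⟨h5, -, h6⟩ := h.suz.higman hA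
  have h3 : Q ≠ h.suz.Z := fun e => hA fun a ha b hb => h.suz.central hb (e.le hb).2 ha
  by_cases h7 : r * r = 1
  · obtain rfl := H.three h7
    have h8 := Nat.card_pos (α := h.suz.Z)
    obtain ⟨p, -⟩ := H.exists_par h3 (by
      rcases h6 with ⟨-, e⟩ | ⟨e, -⟩ <;> rw [e]
      exact Nat.pow_le_pow_right h8 (by norm_num))
    obtain ⟨x, y, e, e1⟩ := p.exists_w_ne h5 h3
    have e2 := p.w_mem e
    generalize p.w x y = a at e1 e2
    have cm : Commute a (c.e 1) := mul_inv_eq_iff_eq_mul.1 (H.comm_V e2)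
    have oa : Odd (orderOf a) := h.odd.of_dvd_nat (D.orderOf_dvd_natCard e2.1)
    have os : orderOf (c.e 1) = 2 := orderOf_eq_prime (sq (c.e 1) ▸ H.ss) H.ne
    have := hc (a * c.e 1) (by
      rw [cm.orderOf_mul_eq_mul_orderOf_of_coprime (by rw [os]; exact oa.coprime_two_right), os]
      simp)
    rw [cm.mul_pow, show (c.e 1) ^ 4 = 1 by rw [show 4 = 2 * 2 from rfl, pow_mul, ← os,
      pow_orderOf_eq_one, one_pow], mul_one] at this
    exact absurd (orderOf_eq_one_iff.1 (Nat.Coprime.eq_one_of_dvd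
      (oa.coprime_two_right.pow_right 2) (orderOf_dvd_of_pow_eq_one this))) e1
  obtain ⟨h8, h9⟩ := H.five h7 (h5 r H.rQ)
  have o4 : orderOf r = 4 := orderOf_eq_prime_pow (p := 2) (n := 1) (by simpa [sq] using h7) (by
    rw [show 2 ^ (1 + 1) = 2 + 2 from rfl, pow_add, sq, h8, H.ss])
  obtain ⟨⟨n, hn, cZ⟩, cQ, bn⟩ := H.order_five h8 hA
  obtain ⟨E, _, _, _, m, A, -, a2, a3, a4, a5⟩ := H.exists_aco h8 hA
  obtain ⟨e⟩ := H7.ACo.iso h a3 a4 a5 hC
  have cK := h.suz.card_Z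
  obtain rfl : m = n := by
    have : ♯Q = Nat.card (E × E) := (Nat.card_eq_of_bijective (fun x : E × E => (⟨A.X x.1 x.2, A.mem _ _⟩ : Q))
      ⟨fun x y e => Prod.ext (A.inj (congrArg Subtype.val e)).1 (A.inj (congrArg Subtype.val e)).2,
        fun x => let ⟨a, b, e⟩ := A.surj x x.2; ⟨(a, b), Subtype.ext e⟩⟩).symm
    rw [cQ, cZ, Nat.card_prod, Nat.card_eq_fintype_card, a2, ← pow_mul, ← pow_add,
      Nat.pow_right_inj (by norm_num)] at this
    omega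
  have el : ∀ k, (∃ g : Lie.Sz E (2 ^ (m + 1)), orderOf g = k) → ∃ g : G, orderOf g = k :=
    fun k ⟨g, hg⟩ => ⟨e.symm g, by rw [orderOf_coe, e.symm.orderOf_eq, hg]⟩
  have rr : 2 ^ (m + 1) * 2 ^ (m + 1) = 2 ^ (2 * m + 1) * 2 := by ring
  have le : 2 ^ (m + 1) * 2 ≤ 2 ^ (2 * m + 1) := by
    rw [← pow_succ]; exact Nat.pow_le_pow_right two_pos (by omega)
  have l4 : 2 ^ 1 ≤ 2 ^ (m + 1) := Nat.pow_le_pow_right two_pos (by omega)
  have fac : (2 ^ (2 * m + 1)) ^ 2 + 1 = (2 ^ (2 * m + 1) - 2 ^ (m + 1) + 1) *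
      (2 ^ (2 * m + 1) + 2 ^ (m + 1) + 1) := by
    generalize 2 ^ (2 * m + 1) = q at *
    generalize 2 ^ (m + 1) = r at *
    obtain ⟨d, rfl⟩ : ∃ d, q = d + r := ⟨q - r, by omega⟩
    rw [Nat.add_sub_cancel]
    nlinarith
  refine ⟨⟨r, o4⟩, m, hn, ?_, ?_, el _ (szt_ord a2 (fac ▸ dvd_mul_right _ _) (by omega) (.inr (by omega))),
    el _ (szt_ord a2 (fac ▸ dvd_mul_left _ _) (by omega) (.inl rfl)), c.e 1 * t, r⁻¹, H.st_ne, ?_,
    by rw [orderOf_inv, o4], ?_, ?_⟩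
  · rw [← card_top, ← h4, bn.card, cQ, cZ, show ♯K = 2 ^ (2 * m + 1) - 1 by omega]
    ring
  · obtain ⟨x, hx⟩ := IsCyclic.exists_ofOrder_eq_natCard (α := Fˣ)
    refine ⟨c.χ.symm x, ?_⟩
    rw [orderOf_coe, c.χ.symm.orderOf_eq, hx, Nat.card_congr c.χ.symm.toEquiv]
    omega
  · haveI := Fact.mk Nat.prime_five
    rw [orderOf_eq_prime h9 H.st_ne]; decide
  · have := H.conj_r 1 1
    rw [pow_one, pow_one] at this
    rw [inv_inv, this]
    exact pow_mem (mem_zpowers _) _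
  · have := H.conj_s 1
    rw [pow_one] at this
    rw [inv_pow, inv_inv, sq, h8, H.s_inv, this]

theorem BE [IsSimpleGroup G] (hna : ∃ a b : G, a * b ≠ b * a) (hc : CIT G) {M : Subgroup G}
    (hM : IsStronglyEmbedded M) :
    (∀ g ∉ M, ∀ h ∉ M, ∃ m ∈ M, h⁻¹ * (m * g) ∈ M) ∧ OneCl G ∧
      (L2e G ∨ ((∃ x : G, orderOf x = 4) ∧ SzD G)) := by
  haveI := BS.oneFix_of_se hM
  obtain ⟨Q, b, t, h, rk⟩ := (BS.base_of_se hna hM).suz BS.regThm BS.twoThm ((1 : G) : G ⧸ M)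
  have k := h.sz' rk
  refine ⟨fun g hg g' hg' => ?_, fun u v hu hv => ?_, ?_⟩
  · have ne : ∀ g ∉ M, (g : G ⧸ M) ≠ ((1 : G) : G ⧸ M) := fun g hg e =>
      hg (by simpa using QuotientGroup.eq.1 e)
    obtain ⟨x, hx, e⟩ := h.trans _ (ne g hg)
    obtain ⟨y, hy, e'⟩ := h.trans _ (ne g' hg')
    refine ⟨y * x⁻¹, ?_, QuotientGroup.eq.1 ?_⟩
    · have : ((y * x⁻¹ * 1 : G) : G ⧸ M) = ((1 : G) : G ⧸ M) := h.le (mul_mem hy (inv_mem hx))
      simpa using QuotientGroup.eq.1 this.symm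
    · change _ = (y * x⁻¹) • (g : G ⧸ M)
      rw [← e, ← e', mul_smul, inv_smul_smul]
  · have hQ : Syl 2 Q ⊤ := by
      refine ⟨le_top, k.suz.pS, fun hd => ?_⟩
      have e1 := card_mul_relIndex (le_top : Q ≤ ⊤)
      rw [k.toBN.card, mul_assoc] at e1
      rw [Nat.eq_of_mul_eq_mul_left (card_pos' Q) e1] at hd
      have e2 := dvd_card_of_isPGroup k.suz.pS k.neQ
      rcases (Nat.Prime.dvd_mul Nat.prime_two).1 hd with h | h
      · exact k.odd.not_two_dvd_nat h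
      · omega
    have into : ∀ t : G, orderOf t = 2 → ∃ t' ∈ Q, t' ≠ 1 ∧ t' * t' = 1 ∧ IsConj t t' := fun t o => by
      obtain ⟨g, -, e⟩ := hQ.exists_cj_le (Q := zpowers t)
        (IsPGroup.iff_card.2 ⟨1, by rw [Nat.card_zpowers, o]; rfl⟩) le_top
      refine ⟨_, e (conj_mem_cj (mem_zpowers t)), fun e => ?_, ?_, isConj_iff.2 ⟨g, rfl⟩⟩
      · rw [conj_eq_one_iff] at e
        simp [e] at o
      · rw [conj_mul, ← sq, ← o, pow_orderOf_eq_one, mul_one, mul_inv_cancel]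
    obtain ⟨u', a1, a2, a3, a4⟩ := into u hu
    obtain ⟨v', b1, b2, b3, b4⟩ := into v hv
    obtain ⟨c, -, e⟩ := k.suz.trans u' a1 v' b1 a2 b2 a3 b3
    exact (a4.trans (isConj_iff.2 ⟨c, e⟩)).trans b4.symm
  · by_cases hA : H7.Hig.Ab Q
    · exact .inl (ba_l2 k (le_antisymm (fun x hx => ⟨hx, h.exp rk hA x hx⟩) k.suz.Z_le))
    · exact .inr (be_sz hc k hA)

theorem AB' [IsSimpleGroup G] (hna : ∃ a b : G, a * b ≠ b * a) (S : Sylow 2 G)
    (h1 : ∀ a ∈ (S : Subgroup G), ∀ b ∈ (S : Subgroup G), a * b = b * a)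
    (h2 : ∀ t : G, orderOf t = 2 → Group.IsSolvable (centralizer ({t} : Set G))) :
    L2e G ∨ (Nat.card (S : Subgroup G) = 4 ∧ (∀ a ∈ (S : Subgroup G), a * a = 1) ∧ OneCl G) := by
  have hS := H1.sylow_isSylowIn_top S
  have cS : (S : Subgroup G) ≤ 𝐂((S : Subgroup G)) := fun x hx => mem_cent_iff.2 fun a ha => h1 a ha x hx
  have c := comm_iff_le_cent.2 cS
  have he := ba_even hna
  have s0 : (S : Subgroup G) ≠ ⊥ := Syl.ne_bot hS (by rwa [card_top])
  have nt : ∀ X : Subgroup G, X ≠ ⊥ → X ≠ ⊤ → 𝐍(X) ≠ ⊤ := fun X a b e =>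
    (normalizer_eq_top_iff.1 e).eq_bot_or_eq_top.elim a b
  by_cases h8 : 2 ^ 3 ≤ ♯(om 2 (S : Subgroup G))
  · left
    have mA := fun x => mem_om_of_comm (p := 2) (x := x) c
    have nA : 𝐍((S : Subgroup G)) ≤ 𝐍(om 2 (S : Subgroup G)) := le_normalizer_om 2 le_rfl
    generalize om 2 (S : Subgroup G) = A at h8 mA nA
    have oa : ∀ a ∈ A, a ≠ 1 → orderOf a = 2 := fun a ha a1 => orderOf_eq_prime ((mA a).1 ha).2 a1
    have sc : ∀ a ∈ A, (S : Subgroup G) ≤ 𝐂[a] := fun a ha => le_cent1_iff.2 (cS ((mA a).1 ha).1)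
    obtain ⟨k1, -⟩ := S0217.result (p := 2) A
      (fun a ha b hb => h1 a ((mA a).1 ha).1 b ((mA b).1 hb).1) (fun a ha => ((mA a).1 ha).2) h8
      (fun a => core {2}ᶜ 𝐂[a]) (fun a _ _ => core_le _ _)
      (fun a _ _ => piG_compl_singleton.1 (core_piG _ _))
      (fun a ha _ b hb x hx => conj_mem_of_mem_normalizer
        ((core_nrm _ _).norm (sc a ha ((mA b).1 hb).1)) hx)
      (fun a _ _ => odd_order_solvable (Nat.odd_iff.2 (by
        have := piG_compl_singleton.1 (core_piG {2}ᶜ 𝐂[a])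
        omega)))
      (fun a ha a1 b hb b1 x hx => p'core_cent_pgroup (p := 2) (R := zpowers a)
        (IsPGroup.iff_card.2 ⟨1, by rw [Nat.card_zpowers, oa a ha a1]; rfl⟩)
        ((zpowers_le (G := G)).2 (sc b hb ((mA a).1 ha).1)) (h2 b (oa b hb b1)) (by
          rw [cent_zpowers]
          exact core_inf_le inf_le_right ⟨hx.1, hx.2, core_le _ _ hx.1⟩))
    have k2 : ∀ a ∈ A, a ≠ 1 → core {2}ᶜ 𝐂[a] ≤ ⨆ a : {a : G // a ∈ A ∧ a ≠ 1}, core {2}ᶜ 𝐂[(a : G)] :=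
      fun a ha a1 => le_iSup_of_le ⟨a, ha, a1⟩ le_rfl
    have k3 : 𝐍((S : Subgroup G)) ≤ 𝐍((⨆ a : {a : G // a ∈ A ∧ a ≠ 1}, core {2}ᶜ 𝐂[(a : G)] :
        Subgroup G)) := fun g hg => mem_normalizer_of_cj_le (cj_le_iff_le_cj_inv.2
      (iSup_le fun a => cj_le_iff_le_cj_inv.1 (by
        rw [cj_core, cj_cent1]
        exact k2 (g * a * g⁻¹) (conj_mem_of_mem_normalizer (nA hg) a.2.1)
          fun e => a.2.2 (by simpa using e))))
    generalize (⨆ a : {a : G // a ∈ A ∧ a ≠ 1}, core {2}ᶜ 𝐂[(a : G)]) = Θ at k1 k2 k3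
    have k4 : ∀ t ∈ (S : Subgroup G), orderOf t = 2 → 𝐂[t] ≤ Θ ⊔ 𝐍((S : Subgroup G)) := fun t ht o => by
      have ta : t ∈ A := (mA t).2 ⟨ht, o ▸ pow_orderOf_eq_one t⟩
      have t1 : t ≠ 1 := by
        rintro rfl
        simp at o
      have a1 := hS.of_le (sc t ta) le_top
      have a2 : (S : Subgroup G) ≤ core2 {2}ᶜ {2} 𝐂[t] := le_trans
        (le_inf (sc t ta) (cS.trans (centralizer_le inf_le_left)))
        (solvable_p_constrained (h2 t o) (Syl.inf_of_nrm a1 (core2_nrm _ _ _)))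
      rw [← Syl.frattini' (a1.of_le a2 (core2_le _ _ _)) (core2_nrm _ _ _), core2_eq_sup (Syl.hall a1)]
      exact sup_le (sup_le (le_sup_of_le_left (k2 t ta t1)) (le_sup_of_le_right
        (inf_le_left.trans le_normalizer))) (le_sup_of_le_right inf_le_right)
    by_cases h0 : Θ = ⊥
    · refine BA hna S (nt _ s0 fun e => ?_) le_rfl (fun t ht o => (k4 t ht o).trans ?_) (.inl h1)
      · obtain ⟨a, b, hab⟩ := hna
        exact hab (h1 a (e ▸ mem_top a) b (e ▸ mem_top b))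
      · rw [h0, bot_sup_eq]
    · refine BA hna S (nt _ h0 fun e => k1 (by rwa [e, card_top])) k3
        (fun t ht o => (k4 t ht o).trans (sup_le le_normalizer k3)) (.inl h1)
  right
  have h4 : ♯(om 2 (S : Subgroup G)) ≤ 2 ^ 2 := by
    obtain ⟨n, hn⟩ := IsPGroup.iff_card.1 (abelem_om (p := 2) c).isPGroup
    rw [hn] at h8 ⊢
    refine Nat.pow_le_pow_right two_pos (by_contra fun h => h8 (Nat.pow_le_pow_right two_pos ?_))
    omega
  have ex : ∀ y ∈ (S : Subgroup G), y ^ 2 = 1 := by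
    by_contra! k
    exact ba_nsol hna (S4418.abelian _ S rfl hS c (prank_le_iff.2 fun A hA a =>
      (card_le_of_le' (a.le_om hA)).trans h4) k)
  rw [om_eq_self ex] at h4
  have mv : ∀ v ∈ (S : Subgroup G), v ≠ 1 → ∃ g ∈ 𝐍((S : Subgroup G)), g * v * g⁻¹ ≠ v := by
    intro v hv v1
    by_contra! k
    obtain ⟨N, hN, ⟨e⟩⟩ := S0105.result S c
    rcases hN.eq_bot_or_eq_top with rfl | rfl
    · obtain ⟨a, b, hab⟩ := hna
      let e' := QuotientGroup.quotientBot.symm.trans e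
      exact hab (e'.injective (by
        rw [map_mul, map_mul]; exact Subtype.ext (h1 _ (e' a).2.1 _ (e' b).2.1)))
    · have := QuotientGroup.subsingleton_quotient_top (G := G)
      have := e.symm.toEquiv.subsingleton
      exact v1 (congrArg Subtype.val (this.elim ⟨v, hv, mem_centralizer_iff.2 fun g hg =>
        mul_inv_eq_iff_eq_mul.1 (k g hg)⟩ 1))
  have four : ∀ t ∈ (S : Subgroup G), ∀ u ∈ (S : Subgroup G), t ≠ 1 → u ≠ 1 → t ≠ u →
      ♯(S : Subgroup G) = 4 ∧ ∀ v ∈ (S : Subgroup G), v = 1 ∨ v = t ∨ v = u ∨ v = t * u := by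
    classical
    intro t ht u hu t1 u1 tu
    have e1 : t * u ≠ 1 := fun e => tu (by
      rw [eq_inv_of_mul_eq_one_left e, inv_eq_of_mul_eq_one_right (sq u ▸ ex u hu)])
    have e2 : ({1, t, u, t * u} : Finset G).card = 4 := by
      rw [Finset.card_insert_of_notMem (by simp [t1.symm, u1.symm, e1.symm]),
        Finset.card_insert_of_notMem (by simp [tu, u1]), Finset.card_pair (by simp [t1])]
    have e3 : ({1, t, u, t * u} : Finset G) ⊆ els (S : Subgroup G) := fun v hv => by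
      simp only [Finset.mem_insert, Finset.mem_singleton] at hv
      rcases hv with rfl | rfl | rfl | rfl
      exacts [mem_els.2 (one_mem _), mem_els.2 ht, mem_els.2 hu, mem_els.2 (mul_mem ht hu)]
    have e4 := Finset.card_le_card e3
    rw [card_els] at e4
    refine ⟨by omega, fun v hv => ?_⟩
    have := (Finset.eq_of_subset_of_card_le e3 (by rw [card_els]; omega)).ge (mem_els.2 hv)
    simpa using this
  have cn : ∀ g v : G, v ≠ 1 → g * v * g⁻¹ ≠ 1 := fun g v h e => h (by simpa using e)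
  have cj1 : ∀ t ∈ (S : Subgroup G), ∀ u ∈ (S : Subgroup G), t ≠ 1 → u ≠ 1 → IsConj t u := by
    intro t ht u hu t1 u1
    by_cases tu : t = u
    · rw [tu]
    obtain ⟨-, f⟩ := four t ht u hu t1 u1 tu
    obtain ⟨g, hg, e⟩ := mv t ht t1
    obtain ⟨g', hg', e'⟩ := mv u hu u1
    rcases f _ (conj_mem_of_mem_normalizer hg ht) with k | k | k | k
    · exact absurd k (cn g t t1)
    · exact absurd k e
    · exact isConj_iff.2 ⟨g, k⟩
    rcases f _ (conj_mem_of_mem_normalizer hg' hu) with k' | k' | k' | k'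
    · exact absurd k' (cn g' u u1)
    · exact (isConj_iff.2 ⟨g', k'⟩).symm
    · exact absurd k' e'
    · exact (isConj_iff.2 ⟨g, k⟩).trans (isConj_iff.2 ⟨g', k'⟩).symm
  refine ⟨?_, fun a ha => sq a ▸ ex a ha, fun t u ot ou => ?_⟩
  · obtain ⟨⟨v, hv⟩, v1⟩ := (ne_bot_iff_exists_ne_one).1 s0
    have v2 : v ≠ 1 := fun e => v1 (Subtype.ext e)
    obtain ⟨g, hg, e⟩ := mv v hv v2
    exact (four v hv _ (conj_mem_of_mem_normalizer hg hv) v2 (cn g v v2) e.symm).1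
  have into : ∀ t : G, orderOf t = 2 → ∃ t' ∈ (S : Subgroup G), t' ≠ 1 ∧ IsConj t t' := fun t o => by
    obtain ⟨g, -, e⟩ := hS.exists_cj_le (Q := zpowers t)
      (IsPGroup.iff_card.2 ⟨1, by rw [Nat.card_zpowers, o]; rfl⟩) le_top
    exact ⟨_, e (conj_mem_cj (mem_zpowers t)), cn g t (by rintro rfl; simp at o),
      isConj_iff.2 ⟨g, rfl⟩⟩
  obtain ⟨t', a1, a2, a3⟩ := into t ot
  obtain ⟨u', b1, b2, b3⟩ := into u ou
  exact (a3.trans (cj1 t' a1 u' b1 a2 b2)).trans b3.symm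

end Cfsg.Agent.OC
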