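import Cfsg.Agent.MC.Def
import Cfsg.Agent.H3.StronglyEmb
import Cfsg.Agent.BS.Sz2

/-! Groups in which no prime divides three element orders: definitions (see `notes/oc_plan.md`). -/

set_option autoImplicit false
set_option linter.unusedSectionVars false

namespace Cfsg.Agent.OC

open Subgroup Cfsg.Agent.MC

universe u
variable {G : Type u} [Group G]

/-- no prime divides three different element orders -/
def TT (G : Type u) [Group G] : Prop := ∀ p : ℕ, p.Prime → ∀ a b c : G, orderOf a ≠ orderOf b →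
  orderOf b ≠ orderOf c → orderOf a ≠ orderOf c → ¬ (p ∣ orderOf a ∧ p ∣ orderOf b ∧ p ∣ orderOf c)

/-- elements of even order have order 2 or 4 -/
def CIT (G : Type u) [Group G] : Prop := ∀ x : G, Even (orderOf x) → x ^ 4 = 1

/-- one class of involutions -/
def OneCl (G : Type u) [Group G] : Prop := ∀ t u : G, orderOf t = 2 → orderOf u = 2 → IsConj t u

def L79 (G : Type u) [Group G] : Prop := ∃ (F : Type) (_ : Field F) (_ : Fintype F),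
  (Fintype.card F = 7 ∨ Fintype.card F = 9) ∧ Nonempty (G ≃* L2 F)

def L34 (G : Type u) [Group G] : Prop := ∃ (F : Type) (_ : Field F) (_ : Fintype F),
  Fintype.card F = 4 ∧ Nonempty (G ≃* Matrix.ProjectiveSpecialLinearGroup (Fin 3) F)

/-- what is needed of a Suzuki group -/
def SzD (G : Type u) [Group G] : Prop := ∃ n : ℕ, 1 ≤ n ∧
  Nat.card G = (2 ^ (2 * n + 1)) ^ 2 * ((2 ^ (2 * n + 1)) ^ 2 + 1) * (2 ^ (2 * n + 1) - 1) ∧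
  (∃ x : G, orderOf x = 2 ^ (2 * n + 1) - 1) ∧ (∃ x : G, orderOf x = 2 ^ (2 * n + 1) - 2 ^ (n + 1) + 1) ∧
  (∃ x : G, orderOf x = 2 ^ (2 * n + 1) + 2 ^ (n + 1) + 1) ∧
  ∃ a k : G, a ≠ 1 ∧ Odd (orderOf a) ∧ orderOf k = 4 ∧ k * a * k⁻¹ ∈ zpowers a ∧
    k ^ 2 * a * (k ^ 2)⁻¹ = a⁻¹

/-- the conclusion for simple groups -/
def SC (G : Type u) [Group G] : Prop := OneCl G ∧
  (L2e G ∨ (L2o G ∧ ¬ 8 ∣ Nat.card G) ∨ ((∃ x : G, orderOf x = 4) ∧ (L79 G ∨ L34 G ∨ SzD G)))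

/-- the conclusion of the induction -/
def Concl (G : Type u) [Group G] : Prop :=
  (IsSimpleGroup G ∧ SC G) ∨ (pCore 2 G ≠ ⊥ ∧ L2e (G ⧸ pCore 2 G))

/-- the induction hypothesis for 2-local subgroups -/
def IH2 (G : Type u) [Group G] : Prop := ∀ H : Subgroup G, pCore 2 H ≠ ⊥ → ¬ Group.IsSolvable H →
  L2e (H ⧸ pCore 2 H)

/-- `V A` looks like a Sylow 2-subgroup of `L₃(q)` -/
structure Cf (V A : Subgroup G) (q : ℕ) : Prop where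
  two : 2 ≤ q
  eV : ∀ x ∈ V, x * x = 1
  eA : ∀ x ∈ A, x * x = 1
  cV : Nat.card V = q ^ 2
  cA : Nat.card A = q ^ 2
  cZ : Nat.card (V ⊓ A : Subgroup G) = q
  cS : Nat.card (V ⊔ A : Subgroup G) = q ^ 3
  nV : A ≤ normalizer (V : Set G)
  nA : V ≤ normalizer (A : Set G)
  comm : ∀ v ∈ V, ∀ a ∈ A, v * a = a * v → v ∈ A ∨ a ∈ V

/-- `H / V ≅ L₂(q)`, `q ≥ 4` even -/
def Lc (H V : Subgroup G) (q : ℕ) : Prop := ∃ (F : Type) (_ : Field F) (_ : Fintype F) (φ : H →* L2 F),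
  CharP F 2 ∧ 4 ≤ q ∧ Fintype.card F = q ∧ Function.Surjective φ ∧ ∀ h : H, φ h = 1 ↔ (h : G) ∈ V

/-- a projective plane of order 4 with a group generated by elations -/
structure PL (G : Type u) [Group G] (Ω : Type u) [MulAction G Ω] (𝓛 : Set (Set Ω)) : Prop where
  card : Nat.card Ω = 21
  five : ∀ l ∈ 𝓛, l.ncard = 5
  join : ∀ p q : Ω, p ≠ q → ∃ l ∈ 𝓛, p ∈ l ∧ q ∈ l
  uniq : ∀ l ∈ 𝓛, ∀ m ∈ 𝓛, ∀ p q : Ω, p ≠ q → p ∈ l → q ∈ l → p ∈ m → q ∈ m → l = m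
  inv : ∀ g : G, ∀ l ∈ 𝓛, (fun x => g • x) '' l ∈ 𝓛
  faith : ∀ g : G, (∀ p : Ω, g • p = p) → g = 1
  cG : Nat.card G = 20160
  gen : closure {z : G | ∃ p : Ω, ∃ l ∈ 𝓛, p ∈ l ∧ (∀ x ∈ l, z • x = x) ∧
    ∀ m ∈ 𝓛, p ∈ m → ∀ x ∈ m, z • x ∈ m} = ⊤
  trans : ∃ l ∈ 𝓛, ∃ A : Subgroup G, (∀ a ∈ A, a * a = 1) ∧ (∀ a ∈ A, ∀ x ∈ l, a • x = x) ∧
    (∀ p ∉ l, ∀ q ∉ l, ∃ a ∈ A, a • p = q) ∧ ∀ p ∉ l, ∀ a ∈ A, a • p = p → a = 1

end Cfsg.Agent.OC
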