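import Cfsg.Agent.OC.B
import Cfsg.Agent.MC.BA
import Cfsg.Agent.FT.P.BG01
import Cfsg.Agent.H3.ZStar
import Cfsg.Agent.H3.Misc
import Cfsg.Agent.H9.Burnside

/-! Piece RDa: no normal subgroup of odd prime power order. -/

set_option autoImplicit false
set_option linter.unusedSectionVars false

namespace Cfsg.Agent.OC

open Subgroup Cfsg.Agent.FT Cfsg.Agent.MC

universe u
variable {G : Type u} [Group G] [Finite G] {r : ℕ} {x g a b : G} {R : Subgroup G}

theorem sb_top (h : Group.IsSolvable (⊤ : Subgroup G)) : Group.IsSolvable G :=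
  Group.isSolvable_of_surjective (f := (⊤ : Subgroup G).subtype) fun g => ⟨⟨g, trivial⟩, rfl⟩

/-- centralizers are solvable -/
theorem sb_cen (h : TT G) (h1 : x ≠ 1) : Group.IsSolvable 𝐂[x] := by
  obtain ⟨y, hy, hl⟩ := exists_prime_order_of_ne_bot (H := zpowers x) (by rwa [Ne, zpowers_eq_bot])
  refine isSolvable_of_le (K := 𝐂[y]) (by rw [← cent_zpowers]; exact cent_le_cent1 hy) ?_
  have key : ∀ p : ℕ, p.Prime → p ∣ ♯𝐂[y] → p ≠ orderOf y → ∃ z : G, orderOf z = p * orderOf y :=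
    fun p hp d ne => by
    obtain ⟨z, hz, rfl⟩ := exists_orderOf_eq_prime hp d
    exact ⟨z * y, Commute.orderOf_mul_eq_mul_orderOf_of_coprime (mem_cent1_iff.1 hz)
      ((Nat.coprime_primes hp hl).2 ne)⟩
  obtain ⟨p, hp, e⟩ : ∃ p : ℕ, p.Prime ∧ ∀ q : ℕ, q.Prime → q ∣ ♯𝐂[y] → q ≠ orderOf y → q = p := by
    by_cases k : ∃ p : ℕ, p.Prime ∧ p ∣ ♯𝐂[y] ∧ p ≠ orderOf y
    · obtain ⟨p, hp, d, ne⟩ := k
      refine ⟨p, hp, fun q hq d' ne' => ?_⟩
      obtain ⟨z, hz⟩ := key p hp d ne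
      obtain ⟨w, hw⟩ := key q hq d' ne'
      exact Nat.eq_of_mul_eq_mul_right hl.pos (TT_two h hl hw.symm.dvd hz.symm.dvd (dvd_mul_left _ _)
        (dvd_mul_left _ _) (by simp [hq.ne_one, hl.ne_zero]) (by simp [hp.ne_one, hl.ne_zero]))
    · exact ⟨2, Nat.prime_two, fun q hq d ne => absurd ⟨q, hq, d, ne⟩ k⟩
  refine H9.burnside_pq (a := ♯𝐂[y]) (b := ♯𝐂[y]) hp hl ?_
  rw [← mul_pow, Nat.dvd_pow_self_iff (card_pos' _).ne' (mul_ne_zero hp.ne_zero hl.ne_zero)]
  intro q hq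
  have q1 := Nat.prime_of_mem_primeFactors hq
  refine q1.mem_primeFactors ?_ (mul_ne_zero hp.ne_zero hl.ne_zero)
  by_cases ne : q = orderOf y
  · exact ne ▸ dvd_mul_left _ _
  · exact e q q1 (Nat.dvd_of_mem_primeFactors hq) ne ▸ dvd_mul_right _ _

theorem sb_ord2 (h : TT G) (hr : r.Prime) (hx : orderOf x = 2 * r) (hg : 2 ∣ orderOf g) :
    orderOf g = 2 ∨ orderOf g = 2 * r := or_iff_not_imp_left.2 fun e =>
  TT_two h Nat.prime_two dvd_rfl hx.symm.dvd hg (dvd_mul_right _ _) e (by have := hr.two_le; omega)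

theorem sb_ordr (h : TT G) (hr : r.Prime) (hx : orderOf x = 2 * r) (hg : r ∣ orderOf g) :
    orderOf g = r ∨ orderOf g = 2 * r := or_iff_not_imp_left.2 fun e =>
  TT_two h hr dvd_rfl hx.symm.dvd hg (dvd_mul_left _ _) e (by have := hr.two_le; omega)

/-- elements of `p`-subgroups, `p = 2, r` -/
theorem sb_pow {p : ℕ} [hp : Fact p.Prime] (hr : r.Prime) (h2 : r ≠ 2) (hR : IsPGroup p R) (hg : g ∈ R)
    (h : p ∣ orderOf g → orderOf g = p ∨ orderOf g = 2 * r) : g ^ p = 1 := by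
  obtain ⟨n, hn⟩ := IsPGroup.iff_orderOf.1 hR ⟨g, hg⟩
  replace hn : orderOf g = p ^ n := (orderOf_coe (⟨g, hg⟩ : R)).trans hn
  rcases n with _ | n
  · rw [orderOf_eq_one_iff.1 hn, one_pow]
  rcases h (hn ▸ dvd_pow_self p n.succ_ne_zero) with e | e
  · rw [← e, pow_orderOf_eq_one]
  have a1 := (Nat.prime_dvd_prime_iff_eq Nat.prime_two hp.out).1
    (Nat.prime_two.dvd_of_dvd_pow (hn ▸ e ▸ dvd_mul_right _ _))
  have a2 := (Nat.prime_dvd_prime_iff_eq hr hp.out).1 (hr.dvd_of_dvd_pow (hn ▸ e ▸ dvd_mul_left _ _))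
  omega

theorem sb_mem {S : Subgroup G} (hS : Syl 2 S ⊤) (hg : g ∈ 𝐍(S)) (o : orderOf g = 2) : g ∈ S :=
  Syl.le_of_nrm (hS.of_le le_normalizer le_top) le_rfl (Q := zpowers g)
    (isPGroup_of_card_prime (by rw [Nat.card_zpowers, o])) ((zpowers_le (G := G)).2 hg) (mem_zpowers g)

/-- a four-group acting on a group -/
theorem sb_klein (ha : a * a = 1) (hb : b * b = 1) (h1 : a ∈ 𝐍(R)) (h2 : b ∈ 𝐍(R))
    (h3 : ∀ y ∈ R, a * y = y * a → y = 1) (h4 : ∀ y ∈ R, b * y = y * b → y = 1) (hx : x ∈ R) :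
    a * b * x = x * (a * b) := by
  rw [← mul_inv_eq_iff_eq_mul]
  calc a * b * x * (a * b)⁻¹ = a * (b * x * b⁻¹) * a⁻¹ := by group
    _ = x := by rw [H3.inverts_of_fixedPointFree hb h2 h4 hx,
      H3.inverts_of_fixedPointFree ha h1 h3 (inv_mem hx), inv_inv]

theorem sb_mul (o : Odd (orderOf x)) (ha : orderOf a = 2) (e : a * x = x * a) :
    orderOf (a * x) = 2 * orderOf x := by
  rw [Commute.orderOf_mul_eq_mul_orderOf_of_coprime e (by rw [ha]; exact o.coprime_two_left), ha]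

/-- the end of the arguments using `FM` -/
theorem sb_fm (h : TT G) (hr : r.Prime) (h2 : r ≠ 2) (hx : orderOf x = 2 * r) (hR : IsPGroup r R)
    {l : ℕ} (hl : l.Prime) (l2 : l ≠ 2) {k v : G} (hk : k ^ l = 1) (kR : k ∉ R) (hn : k ∈ 𝐍(R)) (hv : v ∈ R) :
    (v * k) ^ l = 1 := by
  haveI := Fact.mk hr
  haveI := Fact.mk hl
  by_contra e
  have vn : v * k ∈ 𝐍(R) := mul_mem (le_normalizer hv) hn
  have c : ∀ n : ℕ, coset R ((v * k) ^ n) = coset R k ^ n := fun n => by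
    rw [coset_pow vn, coset_mul (le_normalizer hv) hn, coset_eq_one hv, one_mul]
  have c1 : coset R k ^ l = 1 := by rw [← coset_pow hn, hk, coset_one]
  have m : (v * k) ^ l ∈ R := (coset_eq_one_iff (pow_mem vn l)).1 ((c l).trans c1)
  have o : orderOf ((v * k) ^ l) = r :=
    orderOf_eq_prime (sb_pow hr h2 hR m (sb_ordr h hr hx)) e
  have d : l ∣ orderOf (v * k) := by
    rw [← orderOf_eq_prime c1 fun e => kR ((coset_eq_one_iff hn).1 e), orderOf_dvd_iff_pow_eq_one,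
      ← c, pow_orderOf_eq_one, coset_one]
  have := sb_ordr h hr hx (o ▸ orderOf_pow_dvd l)
  obtain rfl : l = r := by
    rcases this with k | k <;> rw [k] at d
    · exact (Nat.prime_dvd_prime_iff_eq hl hr).1 d
    · exact (Nat.prime_dvd_prime_iff_eq hl hr).1 (((Nat.coprime_primes hl Nat.prime_two).2
        l2).dvd_of_dvd_mul_left d)
  rw [orderOf_pow_of_dvd hl.ne_zero d] at o
  rcases this with k | k <;> rw [k] at o
  · rw [Nat.div_self hl.pos] at o
    exact hl.ne_one o.symm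
  · rw [Nat.mul_div_cancel _ hl.pos] at o
    exact l2 o.symm

theorem RDa (h : TT G) (hs : ¬ Group.IsSolvable G) {r : ℕ} (hr : r.Prime) (h2 : r ≠ 2) (N : Subgroup G)
    [N.Normal] (hN : IsPGroup r N) : N = ⊥ := by
  by_contra N0
  haveI := Fact.mk hr
  have mV := fun x => mem_om_of_comm (p := r) (x := x) (ctr_comm N)
  have nV : ⊤ ≤ 𝐍(om r 𝐙(N)) := le_normalizer_om r (le_normalizer_ctr (normalizer_eq_top N).ge)
  have V0 := om_ne_bot_of_isPGroup (isPGroup_of_le inf_le_left hN)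
    (ctr_ne_bot (isNilpotent_of_isPGroup hN) N0)
  have VN : om r 𝐙(N) ≤ N := (om_le _ _).trans inf_le_left
  generalize om r 𝐙(N) = V at *
  have pV := isPGroup_of_le VN hN
  have oV : ∀ v ∈ V, v ≠ 1 → orderOf v = r := fun v hv => orderOf_eq_prime ((mV v).1 hv).2
  obtain ⟨v0, hv0, v1⟩ := exists_ne_one_of_ne_bot V0
  obtain ⟨x, hx⟩ : ∃ x : G, orderOf x = 2 * r := by
    by_contra! k
    have fr : ∀ a : G, orderOf a = 2 → ∀ y ∈ V, a * y = y * a → y = 1 := fun a ha y hy e => by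
      by_contra y1
      exact k _ (by rw [sb_mul (by rw [oV y hy y1]; exact hr.odd_of_ne_two h2) ha e, oV y hy y1])
    obtain ⟨z, hz⟩ := exists_prime_orderOf_dvd_card' (G := G) 2 (by
      by_contra e
      exact hs (odd_order_solvable (Nat.odd_iff.2 (by omega))))
    have zz : z * z = 1 := by rw [← sq, ← hz, pow_orderOf_eq_one]
    obtain ⟨M, hM, oM, e⟩ := H3.zstar_commute zz fun g c => by
      by_contra ne
      have ow : orderOf (g * z * g⁻¹) = 2 := ((MulAut.conj g).orderOf_eq z).trans hz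
      generalize g * z * g⁻¹ = w at *
      have ww : w * w = 1 := by rw [← sq, ← ow, pow_orderOf_eq_one]
      refine v1 (fr (z * w) (orderOf_eq_prime (by rw [c.mul_pow, sq, sq, zz, ww, one_mul]) fun e => ne ?_)
        v0 hv0 (sb_klein zz ww (nV trivial) (nV trivial) (fr z hz) (fr w ow) hv0))
      rw [eq_inv_of_mul_eq_one_right e, inv_eq_of_mul_eq_one_right zz]
    have z1 : (z : G ⧸ M) ≠ 1 := fun e =>
      oM.not_two_dvd_nat (hz ▸ M.orderOf_dvd_natCard ((QuotientGroup.eq_one_iff z).1 e))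
    have := sb_top (isSolvable_of_le (K := 𝐂[(z : G ⧸ M)]) (fun g _ => by
      obtain ⟨g, rfl⟩ := QuotientGroup.mk_surjective g
      have := (QuotientGroup.eq_one_iff _).2 (e g)
      rw [QuotientGroup.mk_mul, QuotientGroup.mk_mul, QuotientGroup.mk_mul, QuotientGroup.mk_inv,
        QuotientGroup.mk_inv, mul_inv_eq_one, mul_inv_eq_iff_eq_mul] at this
      exact mem_cent1_iff.2 this.symm) (sb_cen (TT_quo h M) z1))
    have := odd_order_solvable oM
    exact hs (Group.isSolvable_of_ker_le_range M.subtype (QuotientGroup.mk' M) (by simp))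
  obtain ⟨S, hS⟩ := exists_syl 2 (⊤ : Subgroup G)
  have eS : ∀ s ∈ S, s * s = 1 := fun s hs => sq s ▸ sb_pow hr h2 hS.isPGroup hs (sb_ord2 h hr hx)
  have cS : IsMulCommutative S :=
    comm_iff_le_cent.2 fun a ha => mem_cent_iff.2 fun b hb => comm_of_sq eS hb ha
  have nC0 : ⊤ ≤ 𝐍(𝐂(V)) := by simpa using (nrm_inf_centralizer nV).norm
  have nC : ∀ g : G, ∀ c ∈ 𝐂(V), g * c * g⁻¹ ∈ 𝐂(V) := fun g c hc =>
    conj_mem_of_mem_normalizer (nC0 (mem_top g)) hc
  let K : Subgroup G :=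
    { carrier := {g | g ∈ 𝐍(S) ∧ ∀ s ∈ S, s⁻¹ * (g * s * g⁻¹) ∈ 𝐂(V)}
      one_mem' := ⟨one_mem _, fun s _ => by simp⟩
      mul_mem' := fun {a b} ha hb => ⟨mul_mem ha.1 hb.1, fun s hs => by
        have := mul_mem (hb.2 s hs) (ha.2 _ (conj_mem_of_mem_normalizer hb.1 hs))
        simpa [mul_assoc] using this⟩
      inv_mem' := fun {a} ha => ⟨inv_mem ha.1, fun s hs => by
        have := inv_mem (ha.2 _ (conj_mem_of_mem_normalizer (inv_mem ha.1) hs))
        simpa [mul_assoc] using this⟩ }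
  have mK : ∀ g, g ∈ K ↔ g ∈ 𝐍(S) ∧ ∀ s ∈ S, s⁻¹ * (g * s * g⁻¹) ∈ 𝐂(V) := fun g => Iff.rfl
  have SK : ∀ g ∈ 𝐍(S), orderOf g = 2 → g ∈ K := fun g hg o => ⟨hg, fun s hs => by
    have : g ∈ S := sb_mem hS hg o
    rw [comm_of_sq eS this hs]; simp⟩
  obtain ⟨k, ⟨kN, kK⟩, mn⟩ := Set.exists_min_image {n | n ∈ 𝐍(S) ∧ n ∉ K} orderOf (Set.toFinite _) (by
    by_contra! e
    have e1 : S ⊓ ⁅(⊤ : Subgroup G), ⊤⁆ ≤ 𝐂(V) := focal_subgroup_le hS fun s hs g hg k => by
      obtain ⟨y, hy, e2⟩ := hS.fusion_elt_of_comm cS s hs g hg k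
      rw [← e2]
      exact ((mK y).1 (by_contra fun k => e.le ⟨hy.2, k⟩)).2 s hs
    have n1 : ⁅(⊤ : Subgroup G), ⊤⁆ ≤ 𝐍(𝐂(V)) := le_top.trans nC0
    have e2 := (hS.inf_of_nrm (der_nrm ⊤)).bar n1
    rw [bar_eq_bot e1] at e2
    have e3 := isSolvable_of_bar n1 (isSolvable_of_le (cent_le_cent1 hv0) (sb_cen h v1))
      (odd_order_solvable (Nat.odd_iff.2 (by
        have := e2.not_dvd
        rw [relIndex_bot_left] at this
        omega)))
    exact hs (sb_top (isSolvable_of_bar (der_nrm ⊤).norm e3 (isSolvable_of_nil (isNilpotent_of_comm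
      ((comm_bar_iff (der_nrm ⊤).norm).2 le_rfl))))))
  have pw : ∀ n, orderOf (k ^ n) < orderOf k → k ^ n ∈ K := fun n e => by_contra fun k =>
    (mn _ ⟨pow_mem kN n, k⟩).not_gt e
  have o2 : ¬ 2 ∣ orderOf k := fun e => by
    rcases sb_ord2 h hr hx e with e | e
    · exact kK (SK k kN e)
    obtain ⟨m, hm⟩ := hr.odd_of_ne_two h2
    have a1 := pw 2 (by rw [orderOf_pow_of_dvd two_ne_zero (e ▸ dvd_mul_right _ _), e]; omega)
    have a2 := pw r (by
      rw [orderOf_pow_of_dvd hr.ne_zero (e ▸ dvd_mul_left _ _), e, Nat.mul_div_cancel _ hr.pos]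
      have := hr.two_le; omega)
    rw [hm, pow_succ, pow_mul] at a2
    exact kK ((K.mul_mem_cancel_left (pow_mem a1 m)).1 a2)
  obtain ⟨s, hs, sC⟩ : ∃ s ∈ S, s⁻¹ * (k * s * k⁻¹) ∉ 𝐂(V) := by
    by_contra! e
    exact kK ⟨kN, e⟩
  have dp : ∀ y ∈ zpowers k, DP (S ⊓ 𝐂(zpowers y)) ⁅S, zpowers y⁆ S := fun y hy =>
    dp_of_coprime_comm ((zpowers_le (G := G)).2 ((zpowers_le (G := G)).2 kN hy))
      (coprime_of_isPGroup hS.isPGroup (piG_compl_singleton.2 fun e => o2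
        ((Nat.card_zpowers y ▸ e).trans (orderOf_dvd_of_mem_zpowers hy)))).symm cS
  have k1 : orderOf k ≠ 1 := fun e => kK (orderOf_eq_one_iff.1 e ▸ one_mem _)
  have hl := Nat.minFac_prime k1
  have dl := Nat.minFac_dvd (orderOf k)
  generalize (orderOf k).minFac = l at hl dl
  have l2 : l ≠ 2 := fun e => o2 (e ▸ dl)
  have ol := orderOf_pow_of_dvd hl.ne_zero dl
  have kl : k ^ l = 1 := by
    by_contra y1
    have yK := pw l (ol ▸ Nat.div_lt_self (orderOf_pos k) hl.one_lt)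
    have d := dp _ (pow_mem (mem_zpowers k) l)
    have : S ⊓ 𝐂(zpowers (k ^ l)) ≠ ⊥ := fun e => by
      have e1 := d.sup
      rw [e, bot_sup_eq] at e1
      refine sC (e1.ge.trans (commutator_le.2 fun a ha b hb => ?_)
        (mul_mem (inv_mem hs) (conj_mem_of_mem_normalizer kN hs)))
      simpa [commutatorElement_def, mul_assoc] using
        ((mK b).1 ((zpowers_le (G := G)).2 yK hb)).2 _ (inv_mem ha)
    obtain ⟨a, ha, a1⟩ := exists_ne_one_of_ne_bot this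
    have oo : Odd (orderOf (k ^ l)) := (Nat.odd_iff.2 (by omega : orderOf k % 2 = 1)).of_dvd_nat
      (orderOf_pow_dvd l)
    have e := sb_mul oo (orderOf_eq_prime (sq a ▸ eS a ha.1) a1)
      (mem_cent_iff.1 ha.2 _ (mem_zpowers _)).symm
    have e1 : orderOf (k ^ l) = r := by
      have := sb_ord2 h hr hx (e ▸ dvd_mul_right _ _)
      have := mt orderOf_eq_one_iff.1 y1
      omega
    have := sb_ordr h hr hx (e1 ▸ orderOf_pow_dvd l)
    have := Nat.div_lt_self (orderOf_pos k) hl.one_lt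
    omega
  haveI := Fact.mk hl
  have ok : orderOf k = l := orderOf_eq_prime kl fun e => k1 (by simp [e])
  have d := dp k (mem_zpowers k)
  have US : ⁅S, zpowers k⁆ ≤ S := commutator_le_left' ((zpowers_le (G := G)).2 kN)
  obtain ⟨v, hv, e⟩ := FM (V := V) (U := ⁅S, zpowers k⁆) (k := k) (n := l)
    (fun a ha b hb => mem_cent_iff.1 ((mV b).1 hb).1.2 a (VN ha)) (le_top.trans nV) (nV trivial)
    (right_le_normalizer_commutator _ _ (mem_zpowers k))
    (coprime_of_isPGroup (isPGroup_of_le US hS.isPGroup) (piG_compl_of_isPGroup_ne pV h2)) hl.pos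
    (fun i i0 il u hu e => d.inf.le ⟨⟨US hu, show u ∈ 𝐂(zpowers k) by
      rw [← eq_zpowers_of_card_prime (X := zpowers k) (by rwa [Nat.card_zpowers, ok])
        (pow_mem (mem_zpowers k) i) (pow_ne_one_of_lt_orderOf i0.ne' (ok ▸ il)), cent_zpowers]
      exact mem_cent1_iff.2 e⟩, hu⟩) (by
      by_contra! e
      refine sC (mem_cent_iff.2 fun v hv => (e v hv _ ?_).symm)
      simpa [commutatorElement_def, mul_assoc] using
        commutator_mem_commutator (inv_mem hs) (mem_zpowers k))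
  refine e (kl ▸ sb_fm h hr h2 hx pV hl l2 kl (fun kV => sC ?_) (nV trivial) hv)
  have kC : k ∈ 𝐂(V) := mem_cent_iff.2 fun a ha => mem_cent_iff.1 ((mV k).1 kV).1.2 a (VN ha)
  simpa [mul_assoc] using mul_mem (nC s⁻¹ k kC) (inv_mem kC)

end Cfsg.Agent.OC
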