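import Cfsg.Agent.OC.A2
import Cfsg.Agent.OC.RDa

/-! Piece RDb: extensions of a 2-group by a simple group. -/

set_option autoImplicit false
set_option linter.unusedSectionVars false

namespace Cfsg.Agent.OC

open Subgroup Cfsg.Agent.FT Cfsg.Agent.MC

universe u
variable {G H : Type u} [Group G] [Finite G] [Group H] [Finite H] {f : G →* H}

theorem rb_lift (hD : IsPGroup 2 f.ker) (hf : Function.Surjective f) {U : Subgroup H} (hU : Odd ♯U) :
    ∃ E : Subgroup G, ♯E = ♯U ∧ E.map f = U ∧ f.ker ⊓ E = ⊥ ∧ ∀ k ∈ 𝐍(U), ∃ k' ∈ 𝐍(E), f k' = k := by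
  have h1 : f.ker.relIndex (U.comap f) = ♯U := by
    rw [relIndex_ker, map_comap_eq_self_of_surjective hf]
  obtain ⟨a, ha⟩ := hD.exists_card_eq
  have h2 : (♯f.ker).Coprime ♯U := ha ▸ hU.coprime_two_left.pow_left a
  obtain ⟨E, hE⟩ := exists_sdp (K := f.ker) (M := U.comap f) ⟨ker_le_comap f U, h1 ▸ h2⟩
    le_normalizer_of_normal
  have h3 : ♯E = ♯U := hE.relIndex_left.symm.trans h1
  refine ⟨E, h3, ?_, hE.inf, fun k hk => ?_⟩
  · rw [← map_comap_eq_self_of_surjective hf U, ← hE.sup, Subgroup.map_sup, (Subgroup.map_eq_bot_iff _).2 le_rfl,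
      bot_sup_eq]
  · obtain ⟨g, rfl⟩ := hf k
    have h4 := hE.cj g
    rw [cj_eq_iff_mem_normalizer.2 (le_normalizer_of_normal (mem_top g)),
      cj_eq_iff_mem_normalizer.2 (le_normalizer_comap f hk)] at h4
    obtain ⟨d, hd, e⟩ := hE.exists_cj_eq h4 (h3 ▸ h2) (Or.inr (isSolvable_of_isPGroup hD))
    exact ⟨d * g, cj_eq_iff_mem_normalizer.1 (by rw [cj_mul, e]), by
      rw [map_mul, MonoidHom.mem_ker.1 hd, one_mul]⟩

theorem rb_fm (hc : CIT G) (hD : IsPGroup 2 f.ker) (h0 : f.ker ≠ ⊥) (hf : Function.Surjective f)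
    {U : Subgroup H} (hU : Odd ♯U) (U0 : U ≠ ⊥) {k : H} (hk : k ∈ 𝐍(U)) (k1 : k ≠ 1)
    (hn : Odd (orderOf k) ∨ orderOf k = 4)
    (fr : ∀ i, 0 < i → i < orderOf k → ∀ u ∈ U, u * k ^ i = k ^ i * u → u = 1) : False := by
  obtain ⟨E, e1, rfl, e3, e4⟩ := rb_lift hD hf hU
  obtain ⟨k, kE, rfl⟩ := e4 k hk
  have key : ∀ y : G, f y = f k → y ^ orderOf (f k) = 1 := fun y hy => by
    have d : orderOf (f k) ∣ orderOf y := hy ▸ orderOf_map_dvd f y
    rcases hn with hn | hn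
    · refine a2_one ((a2_odd hc fun e => k1 (a2_one hn (by rw [← hy, ← map_pow, e, map_one]))).of_dvd_nat
        (orderOf_pow_dvd _)) (a2_four hc hD ?_)
      rw [MonoidHom.mem_ker, map_pow, hy, pow_orderOf_eq_one]
    · rw [hn] at d ⊢
      exact hc y (even_iff_two_dvd.2 (Dvd.dvd.trans (by norm_num) d))
  have mV := fun x => mem_om_of_comm (p := 2) (x := x) (ctr_comm f.ker)
  have nV : ⊤ ≤ 𝐍(om 2 𝐙(f.ker)) := le_normalizer_om 2 (le_normalizer_ctr le_normalizer_of_normal)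
  obtain ⟨v, hv, v1⟩ := exists_ne_one_of_ne_bot (om_ne_bot_of_isPGroup
    (isPGroup_of_le inf_le_left hD) (ctr_ne_bot (isNilpotent_of_isPGroup hD) h0))
  have VD : om 2 𝐙(f.ker) ≤ f.ker := (om_le _ _).trans inf_le_left
  obtain ⟨u, hu, u1⟩ := exists_ne_one_of_ne_bot (H := E) fun e => U0 (by rw [e, Subgroup.map_bot])
  obtain ⟨w, hw, e⟩ := FM (V := om 2 𝐙(f.ker)) (U := E) (k := k) (n := orderOf (f k))
    (fun x hx y hy => mem_cent_iff.1 ((mV y).1 hy).1.2 x (VD hx)) (le_top.trans nV) (nV trivial) kE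
    (coprime_of_isPGroup (isPGroup_of_le VD hD) (piG_compl_singleton.2 (e1 ▸ hU.not_two_dvd_nat))).symm
    (orderOf_pos _) (fun i i0 i4 x hx e => e3.le ⟨fr i i0 i4 _ (mem_map_of_mem f hx) (by
      rw [← map_pow, ← map_mul, ← map_mul, e]), hx⟩)
    ⟨v, hv, u, hu, fun e => v1 (a2_free hc ((e1 ▸ hU).of_dvd_nat (orderOf_dvd_card' hu)) u1
      (a2_four hc hD (VD hv)) e)⟩
  exact e (by rw [key k rfl, key _ (by rw [map_mul, MonoidHom.mem_ker.1 (VD hw), one_mul])])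

theorem rb_l2 (h : L2o H) : ∃ (U : Subgroup H) (k : H), Odd ♯U ∧ U ≠ ⊥ ∧ k ∈ 𝐍(U) ∧ k ≠ 1 ∧
    (Odd (orderOf k) ∨ orderOf k = 4) ∧
    ∀ i, 0 < i → i < orderOf k → ∀ u ∈ U, u * k ^ i = k ^ i * u → u = 1 := by
  obtain ⟨F, _, _, ho, h7, ⟨φ⟩⟩ := h
  obtain ⟨p, hp⟩ := CharP.exists F
  haveI := Fact.mk (CharP.char_is_prime F p)
  obtain ⟨Q⟩ : Nonempty (Sylow p (L2 F)) := inferInstance
  obtain ⟨θ, h1, h2, h3, -, h5, -⟩ := F4 Q
  have cQ : ♯(Q : Subgroup (L2 F)) = Fintype.card F := by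
    rw [← Nat.card_eq_fintype_card]
    exact Nat.card_congr (h1.equiv.trans (Equiv.Set.univ F))
  have t1 : θ 1 = 0 := by simpa using h2 1 (one_mem _) 1 (one_mem _)
  have t0 : ∀ y ∈ (Q : Subgroup (L2 F)), θ y = 0 → y = 1 := fun y hy e =>
    h1.injOn hy (one_mem _) (e.trans t1.symm)
  obtain ⟨m, hm, m1, b, hb⟩ : ∃ m : ℕ, (Odd m ∨ m = 4) ∧ m ≠ 1 ∧ ∃ b : Fˣ, orderOf (b ^ 2) = m := by
    obtain ⟨c, hc⟩ := IsCyclic.exists_ofOrder_eq_natCard (α := Fˣ)
    rw [Nat.card_units, Nat.card_eq_fintype_card] at hc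
    obtain ⟨j, hj⟩ := ho
    have o2 : orderOf (c ^ 2) = j := by rw [orderOf_pow_of_dvd two_ne_zero (by omega)]; omega
    have key : ∀ m, m ∣ j → ∃ b : Fˣ, orderOf (b ^ 2) = m := fun m hm => ⟨c ^ (j / m), by
      rw [← pow_mul, mul_comm, pow_mul, ← o2]; exact orderOf_pow_orderOf_div (by omega) (o2 ▸ hm)⟩
    rcases Nat.even_or_odd j with ⟨i, hi⟩ | hj'
    · rcases Nat.even_or_odd i with ⟨l, hl⟩ | hi'
      · exact ⟨4, Or.inr rfl, by norm_num, key 4 ⟨l, by omega⟩⟩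
      · exact ⟨i, Or.inl hi', by omega, key i ⟨2, by omega⟩⟩
    · exact ⟨j, Or.inl hj', by omega, key j dvd_rfl⟩
  obtain ⟨g, hg, e⟩ := h5 b b.ne_zero
  have pw : ∀ i : ℕ, ∀ y ∈ (Q : Subgroup (L2 F)), θ (g ^ i * y * (g ^ i)⁻¹) = ((b ^ 2) ^ i : Fˣ) * θ y := by
    intro i y hy
    induction i with
    | zero => simp
    | succ i ih =>
      rw [show g ^ (i + 1) * y * (g ^ (i + 1))⁻¹ = g * (g ^ i * y * (g ^ i)⁻¹) * g⁻¹ by group,
        e _ (conj_mem_of_mem_normalizer (pow_mem hg i) hy), ih]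
      push_cast; ring
  have fr : ∀ i, 0 < i → i < m → ∀ u ∈ (Q : Subgroup (L2 F)), u * g ^ i = g ^ i * u → u = 1 :=
    fun i i0 im u hu e => t0 u hu (by
      have := pw i u hu
      rw [← e, mul_inv_cancel_right] at this
      by_contra k
      exact pow_ne_one_of_lt_orderOf i0.ne' (hb ▸ im) (Units.ext (mul_right_cancel₀ k (by
        rw [← this]; simp))))
  obtain ⟨y, hy, y1⟩ := exists_ne_one_of_ne_bot (one_lt_card.1 (by omega) : (Q : Subgroup (L2 F)) ≠ ⊥)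
  have m0 : 0 < m := hb ▸ orderOf_pos _
  have gm : g ^ m ∈ (Q : Subgroup (L2 F)) := by
    rw [← h3 y hy y1, mem_cent1_iff, ← mul_inv_eq_iff_eq_mul]
    refine h1.injOn (conj_mem_of_mem_normalizer (pow_mem hg m) hy) hy ?_
    rw [pw m y hy, ← hb, pow_orderOf_eq_one]; simp
  have og : orderOf g = m := (orderOf_eq_iff m0).2 ⟨fr 1 one_pos (by omega) _ gm (by group),
    fun i im i0 e => y1 (fr i i0 im y hy (by rw [e, mul_one, one_mul]))⟩
  have oφ : orderOf (φ.symm g) = m := (φ.symm.orderOf_eq g).trans og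
  refine ⟨(Q : Subgroup (L2 F)).comap φ.toMonoidHom, φ.symm g, ?_, ne_bot_of_mem (x := φ.symm y)
    (by simpa using hy) (by simpa using y1), le_normalizer_comap _ (by simpa using hg),
    fun e => m1 (by rw [← oφ, e, orderOf_one]), oφ ▸ hm, fun i i0 im u hu e => φ.injective ?_⟩
  · rw [comap_equiv_eq_map_symm', card_map_of_injective φ.symm.injective, cQ]; exact ho
  · rw [map_one]
    exact fr i i0 (oφ ▸ im) _ hu (by simpa using congrArg φ e)

theorem RDb (h : TT G) (hs : ¬ Group.IsSolvable G) (hO : pCore 2 G ≠ ⊥) (h1 : IsSimpleGroup (G ⧸ pCore 2 G))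
    (h2 : SC (G ⧸ pCore 2 G)) : L2e (G ⧸ pCore 2 G) := by
  have hf := QuotientGroup.mk'_surjective (pCore 2 G)
  have hk := QuotientGroup.ker_mk' (pCore 2 G)
  have hD : IsPGroup 2 (QuotientGroup.mk' (pCore 2 G)).ker := hk.symm ▸ L.pCore_isPGroup 2
  rw [← hk] at hO
  generalize QuotientGroup.mk' (pCore 2 G) = f at hf hD hO
  clear hk
  have hc : CIT G := (TT_cit h).resolve_right fun ⟨r, hr, r2, x, hx⟩ => by
    obtain ⟨S, hS⟩ := exists_syl 2 (⊤ : Subgroup G)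
    have eS : ∀ s ∈ S, s * s = 1 := fun s hs => sq s ▸ sb_pow hr r2 hS.isPGroup hs (sb_ord2 h hr hx)
    have DS : f.ker ≤ S := hS.le_of_normal hD le_top le_normalizer_of_normal
    have SC : S ≤ 𝐂(f.ker) := fun s hs => mem_cent_iff.2 fun d hd => comm_of_sq eS (DS hd) hs
    haveI : (𝐂(f.ker)).Normal := inferInstance
    rcases (Normal.map this f hf).eq_bot_or_eq_top with e | e
    · have e1 := hS.map f
      rw [(Subgroup.map_eq_bot_iff _).2 (SC.trans ((Subgroup.map_eq_bot_iff _).1 e)), map_top_of_surjective f hf] at e1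
      have e2 := e1.not_dvd
      rw [relIndex_bot_left, card_top] at e2
      haveI := odd_order_solvable (Nat.odd_iff.2 (by omega) : Odd (Nat.card (G ⧸ pCore 2 G)))
      haveI := isSolvable_of_isPGroup hD
      exact hs (Group.isSolvable_of_ker_le_range f.ker.subtype f (by simp))
    · obtain ⟨d, hd, d1⟩ := exists_ne_one_of_ne_bot hO
      have e1 := comap_map_eq_self (f := f) (DS.trans SC)
      rw [e, comap_top] at e1
      exact hs (sb_top (isSolvable_of_le (e1.le.trans (cent_le_cent1 hd)) (sb_cen h d1)))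
  have hl : ¬ L2o (G ⧸ pCore 2 G) := fun e => by
    obtain ⟨U, k, a1, a2, a3, a4, a5, a6⟩ := rb_l2 e
    exact rb_fm hc hD hO hf a1 a2 a3 a4 a5 a6
  rcases h2.2 with e | e | ⟨-, ⟨F, _, _, e, φ⟩ | e | ⟨n, -, -, -, -, -, a, k, a1, a2, a3, a4, a5⟩⟩
  · exact e
  · exact absurd e.1 hl
  · exact absurd ⟨F, _, _, by rcases e with e | e <;> rw [e] <;> decide, by omega, φ⟩ hl
  · obtain ⟨a, b, ha, hb, hab, hn⟩ := F34 e
    have c1 : zpowers b ≤ 𝐂(zpowers a) := by rw [cent_zpowers, zpowers_le, mem_cent1_iff, hab]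
    have p3 : IsPGroup 3 (zpowers a ⊔ zpowers b : Subgroup _) := isPGroup_sup'
      (isPGroup_of_card_prime (by rw [Nat.card_zpowers, ha]))
      (isPGroup_of_card_prime (by rw [Nat.card_zpowers, hb])) (c1.trans (cent_le_norm _))
    obtain ⟨n, hn3⟩ := p3.exists_card_eq
    have o3 : Odd ♯(zpowers a ⊔ zpowers b : Subgroup _) := hn3 ▸ Odd.pow (by decide)
    obtain ⟨E, e1, e2, e3, -⟩ := rb_lift hD hf o3
    have cm := CP.comm ⟨rfl, c1⟩ (comm_of_isCyclic (isCyclic_zpowers a)) (comm_of_isCyclic (isCyclic_zpowers b))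
    rw [← e2] at cm
    refine absurd (eq_bot_iff.2 (H2.le_of_forall_centralizer_le (A := E) ?_ (fun hcy => hn ?_)
      le_normalizer_of_normal (coprime_of_isPGroup hD (piG_compl_singleton.2
        (e1 ▸ o3.not_two_dvd_nat))).symm fun x hx x1 v hv => a2_free hc
          ((e1 ▸ o3).of_dvd_nat (orderOf_dvd_card' hx)) x1 (a2_four hc hD hv.1)
          (mem_cent1_iff.1 hv.2).symm)) hO
    · refine comm_iff_der.2 (eq_bot_iff.2 (le_trans (le_inf ((Subgroup.map_eq_bot_iff _).1 ?_) (der_le E)) e3.le))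
      rw [map_commutator]; exact comm_iff_der.1 cm
    · have := isCyclic_map hcy f
      rw [e2] at this
      rw [eq_of_card_eq_of_le_cyclic this le_sup_left le_sup_right (by
        rw [Nat.card_zpowers, Nat.card_zpowers, ha, hb])]
      exact mem_zpowers b
  · refine (rb_fm hc hD hO hf (U := zpowers a) (by rwa [Nat.card_zpowers]) (by rwa [Ne, zpowers_eq_bot])
      (cj_eq_iff_mem_normalizer.1 (eq_of_le_of_card_le (by rw [cj_zpowers]; exact zpowers_le.2 a4)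
        (card_cj _ _).ge)) (fun e => by simp [e] at a3) (Or.inr a3) fun i i0 i4 u hu e => ?_).elim
    have c : Commute u (k ^ 2) := by
      have c0 : Commute u (k ^ i) := e
      rw [a3] at i4
      interval_cases i
      · simpa using c0.pow_right 2
      · exact c0
      · have := c0.pow_right 2
        rwa [← pow_mul, show 3 * 2 = 4 + 2 from rfl, pow_add, ← a3, pow_orderOf_eq_one, one_mul] at this
    obtain ⟨j, rfl⟩ := mem_zpowers_iff.1 hu
    refine a2_one (a2.of_dvd_nat (orderOf_dvd_of_mem_zpowers hu)) ?_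
    have := congrArg (· ^ j) a5
    simp only [conj_zpow, inv_zpow] at this
    rw [← c.eq, mul_inv_cancel_right, eq_inv_iff_mul_eq_one] at this
    rw [show 4 = 2 * 2 from rfl, pow_mul, sq (a ^ j), this, one_pow]

end Cfsg.Agent.OC
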