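import Cfsg.Agent.OC.RDa
import Cfsg.Agent.OC.PG
import Cfsg.Agent.MC.QO1
import Cfsg.Agent.BW.A0a
import Cfsg.Agent.FT.P.BG04

/-! Piece RDc1: no outer automorphism of odd prime order. -/

set_option autoImplicit false
set_option linter.unusedSectionVars false

namespace Cfsg.Agent.OC

open Subgroup Cfsg.Agent.FT Cfsg.Agent.MC

universe u
variable {G : Type u} [Group G] [Finite G] {L M S : Subgroup G} {t y : G} {l : ℕ}

theorem r1_aut [L.Normal] {H : Type} [Group H] (e : L ≃* H) : ∃ ι : H →* G, Function.Injective ι ∧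
    (∀ g, g ∈ L ↔ ∃ a, ι a = g) ∧ ∀ g, ∃ β : H ≃* H, ∀ a, ι (β a) = g * ι a * g⁻¹ :=
  ⟨L.subtype.comp e.symm.toMonoidHom, L.subtype_injective.comp e.symm.injective,
    fun g => ⟨fun h => ⟨e ⟨g, h⟩, by simp⟩, fun ⟨a, h⟩ => h ▸ (e.symm a).2⟩,
    fun g => ⟨e.symm.trans ((MulAut.conjNormal g).trans e), fun a => by simp⟩⟩

theorem r1_y (h : TT G) [L.Normal] (hl : L.index.Prime) (h2 : L.index ≠ 2) (ht : orderOf t = 2)
    (h3 : M ≤ 𝐂[t]) (h4 : ¬ M ≤ L) :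
    ∃ y ∈ M, y ∉ L ∧ orderOf y = L.index ∧ orderOf (t * y) = 2 * L.index := by
  obtain ⟨c, hc, c1⟩ := SetLike.not_le_iff_exists.1 h4
  haveI := Fact.mk hl
  obtain ⟨a, b, e, ha, -, ⟨k, a1⟩, b1⟩ := H1.exists_pPart (p := L.index) c
  have b2 : b ∈ L := by
    obtain ⟨m, hm⟩ := exists_pow_eq_self_of_coprime b1.symm
    rw [← hm]; exact pow_mem (L.pow_index_mem b) m
  have a2 : a ∉ L := fun r => c1 (e ▸ mul_mem r b2)
  have a3 := zpowers_le.2 hc ha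
  obtain ⟨j, -, hj⟩ := (Nat.dvd_prime_pow hl).1 (orderOf_dvd_of_pow_eq_one a1)
  have j0 : j ≠ 0 := fun r => a2 (by rw [r, pow_zero, orderOf_eq_one_iff] at hj; exact hj ▸ one_mem L)
  have o := sb_mul (hj ▸ (hl.odd_of_ne_two h2).pow) ht (mem_cent1_iff.1 (h3 a3)).symm
  have d : L.index ∣ orderOf a := hj ▸ dvd_pow_self _ j0
  have := hl.two_le
  have := Nat.le_of_dvd (orderOf_pos a) d
  have := TT_two h Nat.prime_two (a := t * a) (b := t * a) (m := 2 * L.index) (o ▸ Nat.mul_dvd_mul_left 2 d)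
    dvd_rfl (dvd_mul_right _ _) (o ▸ dvd_mul_right _ _) (by omega) (by omega)
  exact ⟨a, a3, a2, by omega, by omega⟩

theorem r1_four [L.Normal] (h4 : ♯S = 4) (ex : ∀ s ∈ S, s * s = 1) (ht : t ∈ S) (t1 : t ≠ 1)
    (hy : y ∈ 𝐍(S)) (h1 : y ∈ 𝐂[t]) (o : Odd (orderOf y)) (hC : L ⊓ 𝐂(S) ≤ S) :
    y ∈ 𝐂(S) ∧ L ⊓ 𝐍(S) ≤ 𝐂[y] := by
  have yt : y * t * y⁻¹ = t := mul_inv_eq_iff_eq_mul.2 (mem_cent1_iff.1 h1)
  have k : y ∈ 𝐂(S) := by
    have k1 : y * y ∈ 𝐂(S) := mem_cent_iff.2 fun u hu => by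
      refine (mul_inv_eq_iff_eq_mul.1 ?_).symm
      by_cases u1 : u = 1
      · simp [u1]
      by_cases tu : t = u
      · rw [← tu, show y * y * t * (y * y)⁻¹ = y * (y * t * y⁻¹) * y⁻¹ by group, yt, yt]
      rw [show y * y * u * (y * y)⁻¹ = y * (y * u * y⁻¹) * y⁻¹ by group]
      rcases qo_four h4 ex ht hu t1 u1 tu _ (H1.conj_mem_of_mem_normalizer hy hu) with r | r | r | r
      · exact absurd r (conj_ne_one u1)
      · exact absurd (by simpa using yt.trans r.symm) tu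
      · rw [r, r]
      · rw [r, ← conj_mul, yt, r, ← mul_assoc, ex t ht, one_mul]
    obtain ⟨m, hm⟩ := exists_pow_eq_self_of_coprime o.coprime_two_left
    rw [← hm, pow_two]; exact pow_mem k1 m
  refine ⟨k, fun g hg => ?_⟩
  have z1 : g * y * g⁻¹ * y⁻¹ ∈ S := hC ⟨by
    rw [mul_assoc, mul_assoc, ← mul_assoc y]
    exact L.mul_mem hg.1 (Normal.conj_mem ‹_› _ (L.inv_mem hg.1) y),
    𝐂(S).mul_mem (H1.conj_mem_of_mem_normalizer (H1.normalizer_le_normalizer_centralizer S hg.2) k)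
      (𝐂(S).inv_mem k)⟩
  have z2 : (g * y * g⁻¹ * y⁻¹) ^ orderOf y = 1 := by
    have := Commute.mul_pow (mem_cent_iff.1 k _ z1) (orderOf y)
    rwa [inv_mul_cancel_right, conj_pow, pow_orderOf_eq_one, mul_one, mul_one, mul_inv_cancel,
      eq_comm] at this
  have z3 := qo_sq (o.of_dvd_nat (orderOf_dvd_of_pow_eq_one z2)) (ex _ z1)
  rw [mul_inv_eq_one, mul_inv_eq_iff_eq_mul] at z3
  exact mem_cent1_iff.2 z3

theorem r1_even (h : TT G) [L.Normal] (hl : L.index.Prime) (h2 : L.index ≠ 2) (hC : 𝐂(L) = ⊥)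
    (h3 : L2e L) : False := by
  obtain ⟨F, _, _, _, q4, ⟨e⟩⟩ := h3
  obtain ⟨ι, inj, mem, aut⟩ := r1_aut e
  obtain ⟨n, -, hq⟩ := FiniteField.card F 2
  obtain ⟨Q0⟩ : Nonempty (Sylow 2 (L2 F)) := inferInstance
  obtain ⟨-, w, -, -, -, -, w1, -, w2⟩ := F9 q4 Q0
  obtain ⟨s, -, -, x3⟩ := F7 Q0 w1 w2
  generalize s * w = x at x3
  have xx : x * x ≠ 1 := fun r => by
    have := orderOf_dvd_of_pow_eq_one ((pow_two x).trans r)
    rw [x3] at this; omega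
  obtain ⟨-, -, t, t2, t3, -⟩ := F3 xx (by rw [x3, hq]; exact Nat.Coprime.pow_right _ (by decide))
  replace t3 := t3 x rfl
  have t1 : t ≠ 1 := fun r => xx (by rw [r, one_mul, inv_one, mul_one, eq_inv_iff_mul_eq_one] at t3; exact t3)
  have cq : ∀ u : L2 F, u * u = 1 → u ≠ 1 → ∃ Q : Sylow 2 (L2 F), 𝐂[u] = Q ∧ u ∈ (Q : Subgroup (L2 F)) :=
    fun u u2 u1 => by
      obtain ⟨Q, hQ⟩ := (H1.isPGroup_zpowers (p := 2) (k := 1) (x := u) (by rw [pow_one, pow_two, u2])).exists_le_sylow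
      obtain ⟨-, -, -, r, -⟩ := F4 Q
      exact ⟨Q, r u (hQ (mem_zpowers u)) u1, hQ (mem_zpowers u)⟩
  have ot : orderOf (ι t) = 2 := by
    rw [orderOf_injective ι inj]; exact orderOf_eq_prime ((pow_two t).trans t2) t1
  obtain ⟨y, hy, y1, y2, y3⟩ := r1_y h hl h2 ot (M := 𝐂[ι t] ⊓ 𝐂[ι x]) inf_le_left fun r => by
    refine hl.ne_one (index_eq_one.2 (eq_top_iff.2 fun g _ => ?_))
    obtain ⟨β, hβ⟩ := aut g
    obtain ⟨a, ha⟩ := isConj_iff.1 (F8.2 (β x) x ((β.orderOf_eq x).trans x3) x3)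
    have u2 : a * β t * a⁻¹ * (a * β t * a⁻¹) = 1 := by
      rw [conj_mul, ← map_mul, t2, map_one, mul_one, mul_inv_cancel]
    have u3 : a * β t * a⁻¹ * x * (a * β t * a⁻¹)⁻¹ = x⁻¹ :=
      calc _ = a * β t * a⁻¹ * (a * β x * a⁻¹) * (a * β t * a⁻¹)⁻¹ := by rw [ha]
        _ = a * β (t * x * t⁻¹) * a⁻¹ := by rw [map_mul, map_mul, map_inv]; group
        _ = _ := by rw [t3, map_inv, ← conj_inv, ha]
    have u4 : a * β t * a⁻¹ * t ∈ 𝐂[x] := mem_cent1_iff.2 (mul_inv_eq_iff_eq_mul.1 (by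
      generalize a * β t * a⁻¹ = u at u3
      calc _ = u * (t * x * t⁻¹) * u⁻¹ := by group
        _ = _ := by rw [t3, ← conj_inv, u3, inv_inv]))
    obtain ⟨m, hm⟩ := H3.exists_zpow_conj_of_odd u2 t2 (Nat.not_even_iff_odd.1 fun o => by
      obtain ⟨c, c1, c2⟩ := exists_orderOf_eq_prime Nat.prime_two
        (H := zpowers (a * β t * a⁻¹ * t)) (by rw [Nat.card_zpowers]; exact o.two_dvd)
      obtain ⟨Q, c3, -⟩ := cq c ((pow_two c).symm.trans ((orderOf_dvd_iff_pow_eq_one (x := c)).1 c2.dvd))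
        fun r => by rw [r, orderOf_one] at c2; omega
      obtain ⟨k, hk⟩ := H1.isPGroup_iff_mem.1 Q.isPGroup' x (c3.le (mem_cent1_comm.1 (zpowers_le.2 u4 c1)))
      exact absurd (Nat.prime_three.dvd_of_dvd_pow (x3 ▸ orderOf_dvd_of_pow_eq_one hk)) (by decide))
    have u5 := mul_inv_eq_iff_eq_mul.2 (mem_cent1_iff.1 (zpow_mem u4 m))
    generalize (a * β t * a⁻¹ * t) ^ m = c at hm u5
    have k : ∀ z, c * (a * β z * a⁻¹) * c⁻¹ = z → ι (c * a) * g ∈ 𝐂[ι z] := fun z hz =>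
      mem_cent1_iff.2 (mul_inv_eq_iff_eq_mul.1 (by
        conv_rhs => rw [← hz]
        simp only [map_mul, map_inv, hβ]; group))
    exact (mul_mem_cancel_left ((mem _).2 ⟨_, rfl⟩)).1 (r ⟨k t hm, k x (by rw [ha, u5])⟩)
  have l3 : L.index = 3 := by
    by_contra r
    have o := Commute.orderOf_mul_eq_mul_orderOf_of_coprime (mem_cent1_iff.1 hy.2) (by
      rw [y2, orderOf_injective ι inj, x3]; exact (Nat.coprime_primes hl Nat.prime_three).2 r)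
    rw [y2, orderOf_injective ι inj, x3] at o
    have := sb_ordr h hl y3 (o ▸ dvd_mul_right _ _)
    have := hl.two_le
    omega
  have o3 : ∀ a : L2 F, 3 ∣ orderOf a → orderOf a = 3 ∨ orderOf a = 6 := fun a r => by
    have := sb_ordr h hl y3 (g := ι a) (by rwa [l3, orderOf_injective ι inj])
    rwa [l3, orderOf_injective ι inj] at this
  have q2 : 2 ∣ Fintype.card F := hq ▸ dvd_pow_self 2 n.ne_zero
  have q3 : ¬ 3 ∣ Fintype.card F := fun r =>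
    absurd (Nat.prime_three.dvd_of_dvd_pow (hq ▸ r)) (by decide)
  have g1 : Nat.gcd 2 (Fintype.card F - 1) = 1 :=
    (Nat.coprime_two_left.2 (Nat.odd_iff.2 (by omega)))
  obtain ⟨⟨a, ha⟩, b, hb⟩ := F3e (F := F)
  rw [g1] at ha hb
  have q4' : Fintype.card F = 4 := by
    rcases (by omega : Fintype.card F % 3 = 1 ∨ Fintype.card F % 3 = 2) with r | r
    · have := o3 a (by omega); omega
    · have := o3 b (by omega); omega
  obtain ⟨Q, c1, c2⟩ := cq t t2 t1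
  have c3 : map ι Q = L ⊓ 𝐂[ι t] := le_antisymm (by
    rintro _ ⟨a, ha, rfl⟩
    exact ⟨(mem _).2 ⟨a, rfl⟩, mem_cent1_iff.2 (by rw [← map_mul, mem_cent1_iff.1 (c1.ge ha), map_mul])⟩)
    fun g hg => by
      obtain ⟨a, rfl⟩ := (mem g).1 hg.1
      exact mem_map_of_mem ι (c1.le (mem_cent1_iff.2 (inj (by
        rw [map_mul, map_mul]; exact mem_cent1_iff.1 hg.2))))
  obtain ⟨θ, θ1, -⟩ := F4 Q
  obtain ⟨-, k⟩ := r1_four (L := L) (S := map ι Q) (by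
      rw [card_map_of_injective inj, ← q4', ← Nat.card_eq_fintype_card, ← Nat.card_congr (Equiv.Set.univ F)]
      exact Nat.card_congr θ1.equiv)
    (fun s hs => (pow_two s).symm.trans (sb_pow hl h2 (Q.isPGroup'.map ι) hs (sb_ord2 h hl y3)))
    (mem_map_of_mem ι c2) (mt (map_eq_one_iff ι inj).1 t1)
    (c3 ▸ le_normalizer_inf le_normalizer_of_normal le_normalizer hy.1) hy.1
    (y2 ▸ hl.odd_of_ne_two h2) (c3.symm ▸ inf_le_inf_left L (cent_le_cent1 (c3 ▸ mem_map_of_mem ι c2)))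
  obtain ⟨β, hβ⟩ := aut y
  refine y1 (bot_le (a := L) (hC.le (mem_cent_iff.2 fun g hg => ?_)))
  obtain ⟨a, rfl⟩ := (mem g).1 hg
  refine (mul_inv_eq_iff_eq_mul.1 ?_).symm
  rw [← hβ, F5 q4 Q β (fun g hg => inj ?_) a]
  rw [hβ, ← mem_cent1_iff.1 (k ⟨(mem _).2 ⟨g, rfl⟩, le_normalizer_map ι (mem_map_of_mem ι hg)⟩),
    mul_inv_cancel_right]

theorem r1_odd [L.Normal] (h3 : L2o L) (ht : t ∈ L) (t2 : orderOf t = 2) :
    ∃ k : G, 4 ≤ orderOf k ∧ 2 ∣ orderOf k ∧ ♯(L ⊓ 𝐂[t] : Subgroup G) = 2 * orderOf k ∧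
      ∀ s ∈ L ⊓ 𝐂[t], orderOf s = 2 → s ≠ t → ∀ x ∈ L ⊓ 𝐂[t], x * s = s * x → x * x = 1 := by
  obtain ⟨F, _, _, o, q7, ⟨e⟩⟩ := h3
  obtain ⟨ι, inj, mem, -⟩ := r1_aut e
  obtain ⟨t, rfl⟩ := (mem t).1 ht
  rw [orderOf_injective ι inj] at t2
  obtain ⟨K, s, hy, cy, -⟩ := F2 o q7 t2
  obtain ⟨k, hk⟩ := cy.exists_ofOrder_eq_natCard
  have c : ∀ {a b}, ι a * ι b = ι b * ι a → a * b = b * a := fun r => inj (by rwa [map_mul, map_mul])
  have c3 : map ι 𝐂[t] = L ⊓ 𝐂[ι t] := le_antisymm (by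
    rintro _ ⟨a, ha, rfl⟩
    exact ⟨(mem _).2 ⟨a, rfl⟩, mem_cent1_iff.2 (by rw [← map_mul, mem_cent1_iff.1 ha, map_mul])⟩)
    fun g hg => by
      obtain ⟨a, rfl⟩ := (mem g).1 hg.1
      exact mem_map_of_mem ι (mem_cent1_iff.2 (c (mem_cent1_iff.1 hg.2)))
  have ok : orderOf (ι k) = Nat.card K := by rw [orderOf_injective ι inj, orderOf_coe, hk]
  refine ⟨ι k, ok ▸ hy.four, ok ▸ t2.symm.dvd.trans (orderOf_dvd_card' hy.tK), by
    rw [← c3, card_map_of_injective inj, BW.A0_cardH hy, ok], fun u hu u2 ut x hx r => ?_⟩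
  obtain ⟨u, rfl⟩ := (mem u).1 hu.1
  obtain ⟨x, rfl⟩ := (mem x).1 hx.1
  rw [orderOf_injective ι inj] at u2
  rw [← map_mul, map_eq_one_iff ι inj]
  have si : s⁻¹ = s := inv_eq_of_mul_eq_one_left hy.ss
  rcases (hy.cent x).1 (c (mem_cent1_iff.1 hx.2)) with r1 | r1
  · have u1 := ((hy.cent u).1 (c (mem_cent1_iff.1 hu.2))).resolve_left fun r2 => ut (by rw [hy.uniq u r2 u2])
    rw [← eq_inv_iff_mul_eq_one, ← hy.inv x r1]
    calc x = u⁻¹ * (u * x) := by group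
      _ = s * ((u * s)⁻¹ * (x * (u * s))) * s⁻¹ := by rw [← c r]; group
      _ = _ := by rw [hy.comm x r1 _ u1]; group
  · calc x * x = x * s * (s * (x * s) * s⁻¹) := by rw [← mul_assoc (x * s), mul_assoc x, ← mul_assoc s s, hy.ss]; group
      _ = 1 := by rw [hy.inv _ r1, mul_inv_cancel]

theorem RDc1 (h : TT G) {L : Subgroup G} [L.Normal] (hl : L.index.Prime) (h2 : L.index ≠ 2)
    (hC : centralizer (L : Set G) = ⊥) (h1 : IsSimpleGroup L) (h3 : SC L) : False := by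
  have hna : ∃ a b : L, a * b ≠ b * a := by
    by_contra! k
    obtain ⟨a, ha⟩ := exists_ne (1 : L)
    exact ha (Subtype.ext (mem_bot.1 (hC.le (mem_cent_iff.2 fun b hb =>
      congrArg Subtype.val (k ⟨b, hb⟩ a)))))
  obtain ⟨t, ht, t2⟩ := exists_orderOf_eq_prime Nat.prime_two (ba_even hna : 2 ∣ ♯L)
  have t1 : t ≠ 1 := fun r => by rw [r, orderOf_one] at t2; omega
  have k1 : ¬ 𝐂[t] ≤ L := fun r => by
    refine hl.ne_one (index_eq_one.2 (eq_top_iff.2 fun g _ => ?_))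
    obtain ⟨a, ha⟩ := isConj_iff.1 (h3.1 ⟨_, Normal.conj_mem ‹_› t ht g⟩ ⟨t, ht⟩
      (by rw [← orderOf_coe, qo_oc, t2]) (by rw [← orderOf_coe, t2]))
    refine (mul_mem_cancel_left a.2).1 (r (mem_cent1_iff.2 (mul_inv_eq_iff_eq_mul.1 ?_)))
    conv_rhs => rw [← show (a : G) * (g * t * g⁻¹) * (a : G)⁻¹ = t from congrArg Subtype.val ha]
    group
  obtain ⟨y0, -, -, -, y0⟩ := r1_y h hl h2 t2 le_rfl k1
  have l2 := hl.two_le
  have lo := hl.odd_of_ne_two h2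
  rcases h3.2 with h4 | ⟨h4, h8⟩ | ⟨⟨x, x4⟩, -⟩
  · exact r1_even h hl h2 hC h4
  swap
  · have := sb_ord2 h hl y0 (g := (x : G)) (by rw [orderOf_coe, x4]; decide)
    rw [orderOf_coe, x4] at this
    omega
  have k2 : ∀ u ∈ L, orderOf u = 2 → ♯(L ⊓ 𝐂[u] : Subgroup G) = 4 * L.index := fun u hu u2 => by
    obtain ⟨k, a1, a2, a3, -⟩ := r1_odd h4 hu u2
    have := sb_ord2 h hl y0 a2
    omega
  obtain ⟨S, hS, tS⟩ := exists_syl_ge (isPGroup_of_card_prime ((Nat.card_zpowers t).trans t2))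
    (zpowers_le.2 ht)
  replace tS := tS (mem_zpowers t)
  have ex : ∀ s ∈ S, s * s = 1 := fun s hs =>
    (pow_two s).symm.trans (sb_pow hl h2 hS.isPGroup hs (sb_ord2 h hl y0))
  have ab : ∀ u ∈ S, S ≤ L ⊓ 𝐂[u] := fun u hu =>
    le_inf hS.le fun s hs => mem_cent1_iff.2 (comm_of_sq ex hs hu)
  have s4 : ♯S = 4 := by
    obtain ⟨n, hn⟩ := IsPGroup.iff_card.1 hS.isPGroup
    have c1 := (hS.of_le (ab t tS) inf_le_left).card_mul_relIndex
    have c2 := (hS.of_le (ab t tS) inf_le_left).not_dvd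
    have c3 : 2 ^ 2 ∣ 2 ^ n := hn ▸ (Nat.Coprime.pow_left 2 ((Nat.Prime.coprime_iff_not_dvd
      Nat.prime_two).2 c2)).dvd_of_dvd_mul_right (by rw [c1, k2 t ht t2]; exact dvd_mul_right _ _)
    have c4 : ¬ 2 ^ 3 ∣ 2 ^ n := fun r => h8 (r.trans (hn ▸ card_dvd_of_le' hS.le))
    rw [Nat.pow_dvd_pow_iff_le_right (by decide)] at c3 c4
    rw [hn, show n = 2 by omega]; rfl
  obtain ⟨y, hy, y1, y2, -⟩ := r1_y h hl h2 t2 (M := 𝐂[t] ⊓ 𝐍(S)) inf_le_left fun r => k1 (by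
    rw [← Syl.frattini' (hS.of_le (ab t tS) inf_le_left)
      (K := 𝐂[t]) ((nrm_top_iff.2 ‹_›).inf_right le_top)]
    exact sup_le inf_le_left r)
  obtain ⟨k3, k4⟩ := r1_four (L := L) s4 ex tS t1 hy.2 hy.1 (y2 ▸ lo) fun x hx => by
    obtain ⟨s, hs, s1⟩ : ∃ s ∈ S, s ∉ zpowers t := by
      by_contra! r
      have := card_le_of_le' (show S ≤ zpowers t from r)
      rw [Nat.card_zpowers] at this
      omega
    obtain ⟨-, -, -, -, a⟩ := r1_odd h4 ht t2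
    have := a s (ab t tS hs) (orderOf_eq_prime ((pow_two s).trans (ex s hs))
      fun r => s1 (r ▸ one_mem _)) (fun r => s1 (r ▸ mem_zpowers t)) x
      ⟨hx.1, cent_le_cent1 tS hx.2⟩ (mem_cent_iff.1 hx.2 s hs).symm
    exact zpowers_le.1 (hS.le_of_le_normalizer (H1.isPGroup_zpowers (k := 1) (by rw [pow_one, pow_two, this]))
      (zpowers_le.2 hx.1) (zpowers_le.2 (cent_le_norm S hx.2)))
  have k5 : ∀ u ∈ S, orderOf u = 2 → L ⊓ 𝐂[u] ≤ 𝐂[y] := fun u hu u2 => by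
    have c0 := k2 u (hS.le hu) u2
    refine le_of_forall_syl fun p hp hd => ?_
    by_cases p2 : p = 2
    · subst p2
      exact ⟨S, hS.of_le (ab u hu) inf_le_left, le_cent1_iff.2 k3⟩
    obtain rfl : p = L.index := (Nat.prime_dvd_prime_iff_eq hp.out hl).1
      (((Nat.Prime.dvd_mul hp.out).1 (c0 ▸ hd)).resolve_left fun r =>
        p2 ((Nat.prime_dvd_prime_iff_eq hp.out Nat.prime_two).1 (hp.out.dvd_of_dvd_pow (n := 2) r)))
    have n : zpowers y ≤ 𝐍(L ⊓ 𝐂[u]) := le_normalizer_inf le_normalizer_of_normal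
      ((zpowers_le.2 (cent_le_cent1 hu k3)).trans le_normalizer)
    obtain ⟨P, hP, yP⟩ := exists_syl_ge (isPGroup_of_card_prime ((Nat.card_zpowers y).trans y2))
      (le_sup_right (a := L ⊓ 𝐂[u]))
    have hR := hP.inf_of_nrm (nrm_sup_left n)
    refine ⟨_, hR, ?_⟩
    obtain ⟨m, hm⟩ := IsPGroup.iff_card.1 hR.isPGroup
    have c1 : L.index ^ m ∣ L.index ^ 1 := (Nat.Coprime.pow m 2
      lo.coprime_two_right).dvd_of_dvd_mul_left (by
        rw [← hm, pow_one]; exact c0 ▸ card_dvd_of_le' hR.le)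
    have c2 : m ≠ 0 := fun r => hR.ne_bot hd (card_eq_one_iff.1 (by rw [hm, r, pow_zero]))
    rw [Nat.pow_dvd_pow_iff_le_right hl.one_lt] at c1
    rw [show m = 1 by omega, pow_one] at hm
    exact (le_of_card_prime_of_inf_ne_bot (hm ▸ hl) (B4.inf_cent_ne_bot hR.isPGroup hP.isPGroup
      ((nrm_sup_left n).inf_left hP.le).norm (hR.ne_bot hd))).trans (cent_le_cent1 (yP (mem_zpowers y)))
  refine r1_even h hl h2 hC (BA hna hS.toSylow (M := 𝐂[y].subgroupOf L) (fun r => y1 ?_) ?_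
    (fun u hu u2 g hg => k5 u hu (by rw [orderOf_coe, u2])
      ⟨g.2, mem_cent1_iff.2 (congrArg Subtype.val (mem_cent1_iff.1 hg))⟩)
    (.inl fun a ha b hb => Subtype.ext (comm_of_sq ex ha hb)))
  · rw [mem_bot.1 (hC.le (le_cent1_iff.1 (subgroupOf_eq_top.1 r)))]; exact one_mem L
  · rw [hS.coe_toSylow, ← subgroupOf_normalizer_eq hS.le]
    exact fun g hg => k4 ⟨g.2, hg⟩

end Cfsg.Agent.OC
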