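import Cfsg.Agent.OC.A34
import Cfsg.Agent.OC.A5
import Cfsg.Agent.OC.BE
import Cfsg.Agent.MC.RC2

/-! Piece RDc2: a simple normal subgroup of index 2. -/

set_option autoImplicit false
set_option linter.unusedSectionVars false

namespace Cfsg.Agent.OC

open Subgroup Cfsg.Agent.FT Cfsg.Agent.MC

universe u
variable {G : Type u} [Group G] [Finite G]

theorem d_inv {K : Subgroup G} {t s g : G} (H : BW.Hyp K t s) (h1 : g * t = t * g) (h2 : g ∉ K) :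
    g * g = 1 ∧ ∀ x ∈ K, g * x * g⁻¹ = x⁻¹ := by
  have h3 := ((H.cent g).1 h1).resolve_left h2
  obtain ⟨k, hk, rfl⟩ : ∃ k ∈ K, g = k * s := ⟨_, h3, by rw [mul_assoc, H.ss, mul_one]⟩
  refine ⟨?_, fun x hx => ?_⟩
  · rw [mul_assoc, ← mul_assoc s, mul_inv_eq_iff_eq_mul.1 (H.inv k hk), mul_assoc, H.ss]; simp
  · rw [mul_inv_rev, ← mul_assoc, mul_assoc k, mul_assoc k, H.inv x hx, H.comm k hk _ (inv_mem hx),
      mul_inv_cancel_right]

theorem d_sq (h4 : ∀ x : G, orderOf x ≠ 4) {P : Subgroup G} (hP : IsPGroup 2 P) :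
    ∀ x ∈ P, x * x = 1 := fun x hx => by
  obtain ⟨n, hn⟩ := IsPGroup.iff_orderOf.1 hP ⟨x, hx⟩
  replace hn : orderOf x = 2 ^ n := (orderOf_mk x hx).symm.trans hn
  rw [← sq, ← orderOf_dvd_iff_pow_eq_one, hn]
  by_contra e
  obtain ⟨y, hy⟩ := ex_ord (a := x) (m := 2 ^ 2) ((pow_dvd_pow 2 (by
    by_contra e'; exact e ((pow_dvd_pow 2 (by omega : n ≤ 1)).trans (by rfl)))).trans hn.symm.dvd)
  exact h4 y hy

variable {L : Subgroup G} [L.Normal] (h2 : L.index = 2)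
include h2

theorem d_odd {g : G} (hg : Odd (orderOf g)) : g ∈ L := by
  obtain ⟨m, hm⟩ := exists_pow_eq_self_of_coprime hg.coprime_two_left
  exact hm ▸ pow_mem (sq_mem_of_index_two h2 g) m

theorem d_fix {C : Subgroup G} {ρ : G} (hC : IsPGroup 2 C) (h1 : ρ ∈ 𝐍(C)) (ho : Odd (orderOf ρ)) :
    C ≤ (C ⊓ 𝐂[ρ]) ⊔ L := by
  obtain ⟨n, hn⟩ := hC.exists_card_eq
  rw [← cent_zpowers]
  exact H2.centralizer_sup_of_commutator_le (zpowers_le.2 h1)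
    (by rw [hn, Nat.card_zpowers]; exact ho.coprime_two_right.pow_right n) (.inr (isSolvable_of_isPGroup hC))
    ((commutator_mono le_top (zpowers_le.2 (d_odd h2 ho))).trans (commutator_le_right _ _))

theorem d_syl {P : Subgroup G} (hP : Syl 2 P ⊤) : ¬ P ≤ L := fun e =>
  hP.not_dvd (by rw [relIndex_top_right, ← h2]; exact index_dvd_of_le e)

theorem d_U (h4 : ∀ x : G, orderOf x ≠ 4) {S : Subgroup G} {ρ : G} (hS : IsPGroup 2 S)
    (h1 : ∀ c ∈ L ⊓ 𝐂(S), c * c = 1) (h3 : ρ ∈ 𝐍(S)) (ho : Odd (orderOf ρ)) :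
    ∃ u ∉ L, u ∈ 𝐂(S) ∧ u ∈ 𝐂[ρ] ∧ u * u = 1 := by
  obtain ⟨P, p1, p2⟩ := exists_syl_ge hS le_top
  have h5 : IsPGroup 2 𝐂(S) := fun c => ⟨2, Subtype.ext (by
    have := h1 _ ⟨mul_self_mem_of_index_two h2 c.1, mul_mem c.2 c.2⟩
    rwa [← sq, ← sq, ← pow_mul] at this)⟩
  by_contra! h6
  refine d_syl h2 p1 (le_trans (fun x hx => mem_cent_iff.2 fun s hs => ?_)
    ((d_fix h2 h5 (H1.normalizer_le_normalizer_centralizer _ h3) ho).trans (sup_le (fun u hu =>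
      by_contra fun e => h6 u e hu.1 hu.2 (d_sq h4 h5 u hu.1)) le_rfl)))
  exact comm_of_sq (d_sq h4 p1.isPGroup) (p2 hs) hx

variable {F : Type} [Field F] [Fintype F] (ψ : L2 F →* G) (hψ : Function.Injective ψ) (hL : ψ.range = L)
include hψ hL

theorem d_aut (u : G) : ∃ α : L2 F ≃* L2 F, ∀ x, ψ (α x) = u * ψ x * u⁻¹ := by
  subst hL
  exact ⟨MulAut.congr (MonoidHom.ofInjective hψ).symm (MulAut.conjNormal u), fun x =>
    MonoidHom.apply_ofInjective_symm hψ _⟩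

theorem d_U' (h4 : ∀ x : G, orderOf x ≠ 4) {Q : Subgroup (L2 F)} {ρ : L2 F} (hS : IsPGroup 2 Q)
    (h1 : ∀ c ∈ 𝐂(Q), c * c = 1) (h3 : ρ ∈ 𝐍(Q)) (ho : Odd (orderOf ρ)) :
    ∃ u ∉ L, (∀ x ∈ Q, Commute (ψ x) u) ∧ Commute (ψ ρ) u ∧ u * u = 1 := by
  obtain ⟨u, a1, a2, a3, a4⟩ := d_U h2 h4 (hS.map ψ) (ρ := ψ ρ) (by
    rintro _ ⟨hc, h5⟩
    obtain ⟨c, rfl⟩ := hL.ge hc
    rw [← map_mul, h1 c (mem_cent_iff.2 fun s hs => hψ (by
      simpa using mem_cent_iff.1 h5 _ (mem_map_of_mem ψ hs))), map_one])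
    (le_normalizer_map ψ (mem_map_of_mem ψ h3)) (by rwa [orderOf_injective ψ hψ])
  exact ⟨u, a1, fun x hx => mem_cent_iff.1 a2 _ (mem_map_of_mem ψ hx), (mem_cent1_iff.1 a3).symm, a4⟩

theorem d_B1 (h4 : ∀ x : G, orderOf x ≠ 4) (hC : 𝐂(L) = ⊥) [CharP F 2] (hq : 4 ≤ Fintype.card F) : False := by
  obtain ⟨Q⟩ : Nonempty (Sylow 2 (L2 F)) := inferInstance
  obtain ⟨k, -, k1, k2, k3, -⟩ := F9 hq Q
  obtain ⟨θ, -, -, q1, -, -, q2⟩ := F4 Q
  obtain ⟨y, y1, y2⟩ := exists_ne_one_of_ne_bot (H := (Q : Subgroup (L2 F))) fun e => by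
    rw [e, normalizer_eq_top, index_top] at q2; omega
  obtain ⟨u, a1, a2, a3, -⟩ := d_U' h2 ψ hψ hL h4 Q.isPGroup' (fun c hc => hψ (by
    simpa using d_sq h4 (Q.isPGroup'.map ψ) _ (mem_map_of_mem ψ (q1 y y1 y2 ▸ cent_le_cent1 y1 hc)))) k2 (by
      have := FiniteField.even_card_of_char_two (ringChar.eq F 2)
      rw [Nat.odd_iff]; omega)
  obtain ⟨α, hα⟩ := d_aut h2 ψ hψ hL u
  have h5 := F5 hq Q α fun g hg => (sup_le (fun x hx => hψ (by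
    simp [hα, ← (a2 x hx).eq])) (zpowers_le.2 (hψ (by simp [hα, ← a3.eq]))) :
      _ ≤ α.toMonoidHom.eqLocus (MonoidHom.id _)) (k3 ▸ hg)
  refine a1 (bot_le (a := L) (hC.le (mem_cent_iff.2 fun g hg => ?_)))
  obtain ⟨x, rfl⟩ := hL.ge hg
  exact eq_mul_inv_iff_mul_eq.1 (by rw [← hα, h5])


theorem d_B2 (h : TT G) (h4 : ∀ x : G, orderOf x ≠ 4) (ho : Odd (Fintype.card F)) (hq : 7 ≤ Fintype.card F)
    (h8 : ¬ 8 ∣ Nat.card (L2 F)) : False := by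
  classical
  obtain ⟨Q⟩ : Nonempty (Sylow 2 (L2 F)) := inferInstance
  have f0 := F0_card (F := F)
  rw [Nat.gcd_eq_left (by obtain ⟨m, hm⟩ := ho; omega)] at f0
  have q1 : ∀ x ∈ (Q : Subgroup (L2 F)), x * x = 1 := fun x hx => hψ (by
    simpa using d_sq h4 (Q.isPGroup'.map ψ) _ (mem_map_of_mem ψ hx))
  have q2 : ♯(Q : Subgroup (L2 F)) = 4 := by
    have a1 : 2 ^ 2 ∣ Nat.card (L2 F) := by
      obtain ⟨m, hm⟩ := ho
      obtain ⟨c, hc⟩ := Nat.even_mul_succ_self m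
      refine ⟨(2 * m + 1) * c, Nat.eq_of_mul_eq_mul_left two_pos ?_⟩
      rw [f0, hm, show (2 * m + 1) ^ 2 - 1 = 4 * (m * (m + 1)) from Nat.sub_eq_of_eq_add (by ring), hc]; ring
    obtain ⟨n, hn⟩ := Q.isPGroup'.exists_card_eq
    have a2 := (Nat.pow_dvd_pow_iff_le_right one_lt_two).1 (hn ▸ Q.pow_dvd_card_of_pow_dvd_card a1)
    by_contra e
    exact h8 (((pow_dvd_pow 2 (by by_contra e'; exact e (by rw [hn, show n = 2 by omega]; rfl) : 3 ≤ n)).trans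
      hn.symm.dvd).trans (card_subgroup_dvd_card _))
  have q3 : ∀ t, ∃ s ∈ (Q : Subgroup (L2 F)), s ≠ 1 ∧ s ≠ t := fun t => by
    by_contra! e
    have := Set.ncard_le_ncard (s := (Q : Subgroup (L2 F))) (t := {1, t}) fun z hz => by
      by_cases e1 : z = 1
      exacts [.inl e1, .inr (e z hz e1)]
    rw [← Nat.card_coe_set_eq, SetLike.coe_sort_coe, q2] at this
    exact absurd (this.trans (Set.ncard_insert_le _ _)) (by simp)
  have q4 : ∀ t ∈ (Q : Subgroup (L2 F)), t ≠ 1 → ∀ K s, BW.Hyp K t s → ∀ w ∈ (Q : Subgroup (L2 F)), w ≠ 1 →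
      w ≠ t → ∀ x ∈ K, w * x * w⁻¹ = x⁻¹ := fun t t1 t2 K s H w w1 w2 w3 =>
    (d_inv H (comm_of_sq q1 w1 t1) fun e => w3 (H.uniq w e (H3.orderOf_two_of_mul_self (q1 w w1) w2))).2
  obtain ⟨t, t1, t2, -⟩ := q3 1
  obtain ⟨K, s, H, ⟨g, hg⟩, k1⟩ := F2 ho hq (H3.orderOf_two_of_mul_self (q1 t t1) t2)
  obtain ⟨ρ, r1, r2, r3⟩ : ∃ ρ ∈ 𝐍((Q : Subgroup (L2 F))), orderOf ρ = 3 ∧
      ∀ t ∈ (Q : Subgroup (L2 F)), ρ * t = t * ρ → t = 1 := by
    obtain ⟨w, w1, w2, w3⟩ := q3 t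
    obtain ⟨c, rfl⟩ := isConj_iff.1 (H.conj w (H3.orderOf_two_of_mul_self (q1 w w1) w2))
    haveI := H1.isMulCommutative_of_forall fun _ ha _ hb => comm_of_sq q1 ha hb
    obtain ⟨n, n1, n2⟩ := Q.conj_eq_normalizer_conj_of_mem t c⁻¹ t1 (by rwa [inv_inv])
    obtain ⟨r, a1, a2⟩ := Nat.exists_prime_and_dvd (n := (Q : Subgroup (L2 F)).relIndex 𝐍((Q : Subgroup (L2 F))))
      fun e => w3 (by
        rw [inv_inv] at n2
        rw [n2, mul_assoc, comm_of_sq q1 t1 (relIndex_eq_one.1 e n1), inv_mul_cancel_left])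
    haveI := Fact.mk a1
    obtain ⟨⟨ρ, b1⟩, b2⟩ := exists_prime_orderOf_dvd_card' r (a2.trans (relIndex_dvd_card' _ _))
    replace b2 : orderOf ρ = r := (orderOf_mk ρ b1).symm.trans b2
    have b3 : Odd (orderOf ρ) := b2 ▸ a1.odd_of_ne_two (by
      rintro rfl; exact Q.not_dvd_index (a2.trans (relIndex_dvd_index_of_le le_normalizer)))
    have b4 : ∀ t ∈ (Q : Subgroup (L2 F)), ρ * t = t * ρ → t = 1 := fun t t1 e => by_contra fun t2 => by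
      obtain ⟨K, s, H, -⟩ := F2 ho hq (H3.orderOf_two_of_mul_self (q1 t t1) t2)
      obtain ⟨w, w1, w2, w3⟩ := q3 t
      have : ρ ^ 4 = 1 := by
        by_cases e1 : ρ ∈ K
        · have := q1 _ (mul_mem (conj_mem_of_mem_normalizer b1 w1) (inv_mem w1))
          rwa [mul_assoc ρ w, mul_assoc ρ _ w⁻¹, q4 t t1 t2 K s H w w1 w2 w3 _ (inv_mem e1), inv_inv, ← sq, ← sq,
            ← pow_mul] at this
        · rw [show 4 = 2 * 2 from rfl, pow_mul, sq ρ, (d_inv H e e1).1, one_pow]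
      exact a1.one_lt.ne (by rw [← b2, a2_one b3 this, orderOf_one])
    have b5 := (semiReg_of_card_prime (K := Q) (R := zpowers ρ) (by rwa [Nat.card_zpowers, b2])
      (eq_bot_iff.2 fun t ht => b4 t ht.1 (mem_cent_iff.1 ht.2 ρ (mem_zpowers ρ)))).card_dvd (zpowers_le.2 b1)
    rw [Nat.card_zpowers, q2, b2] at b5
    exact ⟨ρ, b1, b2.trans ((Nat.prime_dvd_prime_iff_eq a1 Nat.prime_three).1 b5), b4⟩
  obtain ⟨u, a1, a2, a3, a4⟩ := d_U' h2 ψ hψ hL h4 Q.isPGroup' (fun c hc => by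
    by_cases e : c ∈ K
    · obtain ⟨w, w1, w2, w3⟩ := q3 t
      rw [mul_eq_one_iff_eq_inv, ← q4 t t1 t2 K s H w w1 w2 w3 c e, mem_cent_iff.1 hc w w1, mul_inv_cancel_right]
    · exact (d_inv H (mem_cent_iff.1 hc t t1).symm e).1) r1 (by rw [r2]; decide)
  have o1 : ∀ w ∉ L, w * w = 1 → ∀ y : L2 F, Commute (ψ y) w → Odd (orderOf y) →
      orderOf (ψ y * w) = 2 * orderOf y := fun w w1 w2 y e b => by
    have := H3.orderOf_two_of_mul_self w2 (by rintro rfl; exact w1 (one_mem _))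
    rw [e.orderOf_mul_eq_mul_orderOf_of_coprime, this, orderOf_injective ψ hψ, mul_comm]
    rw [this, orderOf_injective ψ hψ]; exact b.coprime_two_right
  have o2 : ∀ (y : G) (m : ℕ), m ∣ orderOf y → 2 ∣ m → m ≠ 2 → m = 6 := fun y m b1 b2 b3 =>
    TT_two h Nat.prime_two b1 (by rw [o1 u a1 a4 ρ a3 (by rw [r2]; decide), r2]) b2 (by norm_num) b3 (by norm_num)
  have g1 : orderOf (g : L2 F) = ♯K := (orderOf_coe g).trans (orderOf_eq_card_of_forall_mem_zpowers hg)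
  have g2 : ♯K = 6 := o2 (ψ g) _ (by rw [orderOf_injective ψ hψ, g1]) (H.t2.symm.dvd.trans (orderOf_dvd_natCard K H.tK))
    (by have := H.four; omega)
  replace hg : ∀ x ∈ K, x ∈ zpowers (g : L2 F) := fun x hx =>
    (hg ⟨x, hx⟩).imp fun n e => congrArg Subtype.val e
  obtain ⟨g, g0⟩ := g
  simp only [g2] at g1 hg k1
  have g3 : g ^ 3 = t := H.uniq _ (pow_mem g0 3) (by rw [orderOf_pow, g1]; rfl)
  have Z : ∀ w ∉ L, w * w = 1 → (∀ x ∈ Q, Commute (ψ x) w) → Commute (ψ (g ^ 2)) w →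
      ∀ y, Commute (ψ y) w → y * t = t * y := fun w w1 w2 w3 w4 y w5 => by
    have b1 : K ≤ (𝐂[w]).comap ψ := fun x hx => zpowers_le.2 (by
      have := (w3 t t1).mul_left w4.inv_left
      rw [← map_inv, ← map_mul, ← g3, pow_succ', mul_inv_cancel_right] at this
      exact mem_cent1_iff.2 this) (hg x hx)
    have b2 : 𝐂[t] ≤ (𝐂[w]).comap ψ := fun x hx => ((H.cent x).1 (mem_cent1_iff.1 hx)).elim (b1 ·) fun e => by
      obtain ⟨v, v1, v2, v3⟩ := q3 t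
      have := mul_mem (mul_mem (b1 e) (inv_mem (b1 (((H.cent v).1 (comm_of_sq q1 v1 t1)).resolve_left fun e =>
        v3 (H.uniq v e (H3.orderOf_two_of_mul_self (q1 v v1) v2)))))) (mem_cent1_iff.2 (w3 v v1))
      simpa [mul_assoc] using this
    have b3 : ∀ p, p.Prime → p ∣ ♯((𝐂[w]).comap ψ) → p = 2 ∨ p = 3 := fun p hp e => or_iff_not_imp_left.2 fun p2 => by
      haveI := Fact.mk hp
      obtain ⟨⟨y, c1⟩, c2⟩ := exists_prime_orderOf_dvd_card' p e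
      replace c2 : orderOf y = p := (orderOf_mk y c1).symm.trans c2
      have := o2 _ _ (o1 w w1 w2 y (mem_cent1_iff.1 c1) (c2 ▸ hp.odd_of_ne_two p2)).symm.dvd ⟨_, rfl⟩
        (by have := hp.two_le; omega)
      omega
    have b4 : ♯((𝐂[w]).comap ψ) ∣ 12 := by
      have := card_subgroup_dvd_card ((𝐂[w]).comap ψ)
      rcases k1 with k1 | k1
      · refine (Nat.coprime_of_dvd fun p hp e => ?_ : Nat.Coprime _ 91).dvd_of_dvd_mul_right
          (this.trans (dvd_of_eq (by rw [k1] at f0; omega)))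
        rcases b3 p hp e with rfl | rfl <;> norm_num
      · refine (Nat.coprime_of_dvd fun p hp e => ?_ : Nat.Coprime _ 55).dvd_of_dvd_mul_right
          (this.trans (dvd_of_eq (by rw [show Fintype.card F = 11 by omega] at f0; omega)))
        rcases b3 p hp e with rfl | rfl <;> norm_num
    refine mem_cent1_iff.1 ((eq_of_le_of_card_ge b2 ((Nat.le_of_dvd (by norm_num) b4).trans ?_)).ge
      (mem_cent1_iff.2 w5))
    rw [c_idx (fun x hx => mem_cent1_iff.2 ((H.cent x).2 (.inl hx)))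
      (mem_cent1_iff.2 ((H.cent s).2 (.inr (H.ss ▸ one_mem _)))) H.sK
      fun x hx => (H.cent x).1 (mem_cent1_iff.1 hx), g2]
  obtain ⟨α, hα⟩ := d_aut h2 ψ hψ hL u
  have x1 : orderOf (g ^ 2) = 3 := by rw [orderOf_pow, g1]; rfl
  have x0 : ∀ y : L2 F, orderOf y = 3 → y * y ≠ 1 := fun y e e' => by
    have := orderOf_dvd_of_pow_eq_one ((sq y).trans e')
    rw [e] at this; omega
  have x2 : α (g ^ 2) ∈ K := by_contra fun e => x0 _ ((α.orderOf_eq _).trans x1) (d_inv H (hψ (by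
    rw [map_mul, map_mul, hα]
    exact ((((a2 t t1).symm.mul_left (((Commute.refl g).pow_pow 2 3).map ψ |> (g3 ▸ ·))).mul_left
      (a2 t t1).symm.inv_left)).eq)) e).1
  obtain ⟨n, n1, n2⟩ := Finset.mem_image.1 (mem_zpowers_iff_mem_range_orderOf.1 (hg _ x2))
  have n3 := (α.orderOf_eq _).trans x1
  rw [← n2, orderOf_pow, g1] at n3
  rw [g1, Finset.mem_range] at n1
  obtain rfl | rfl : n = 2 ∨ n = 4 := by revert n3; interval_cases n <;> decide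
  · exact t2 (r3 t t1 (Z u a1 a4 a2 (eq_mul_inv_iff_mul_eq.1 (by rw [← hα, ← n2])) ρ a3))
  have c1 : u * ψ (g ^ 2) * u⁻¹ = (ψ (g ^ 2))⁻¹ := by
    rw [← hα, ← n2, ← map_inv, eq_inv_of_mul_eq_one_left ((pow_add g 4 2).symm.trans (orderOf_dvd_iff_pow_eq_one.1 g1.dvd))]
  have c2 := conj_mem_of_mem_normalizer r1 t1
  have c3 := conj_mem_of_mem_normalizer' r1 t1
  have c4 := q4 t t1 t2 K s H _ c2 (by simpa using t2) (fun e => t2 (r3 t t1 (mul_inv_eq_iff_eq_mul.1 e))) _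
    (pow_mem g0 2)
  have c5 := q4 t t1 t2 K s H _ c3 (by simpa [mul_assoc, inv_mul_eq_iff_eq_mul] using t2) (fun e => t2 (r3 t t1 (by
    rwa [mul_assoc, inv_mul_eq_iff_eq_mul, eq_comm] at e))) _ (pow_mem g0 2)
  have c6 : ρ * ρ * ρ = 1 := (pow_three' ρ).symm.trans (orderOf_dvd_iff_pow_eq_one.1 r2.dvd)
  generalize g ^ 2 = x at Z c1 c4 c5 x1
  have c7 : ∀ y, u * ψ y * u⁻¹ = (ψ y)⁻¹ → ρ⁻¹ * t * ρ * y * (ρ⁻¹ * t * ρ)⁻¹ = y⁻¹ →
      Commute (ψ y) (ψ (ρ⁻¹ * t * ρ) * u) := fun y e1 e2 => by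
    refine (mul_inv_eq_iff_eq_mul.1 ?_).symm
    rw [mul_inv_rev, ← mul_assoc, mul_assoc _ u, mul_assoc _ _ u⁻¹, e1, ← map_inv, ← map_inv, ← map_mul, ← map_mul,
      ← conj_inv, e2, inv_inv]
  have c8 := Z (ψ (ρ⁻¹ * t * ρ) * u) (by rwa [mul_mem_cancel_left (hL.le ⟨_, rfl⟩)]) (by
      rw [(a2 _ c3).symm.mul_mul_mul_comm, ← map_mul, q1 _ c3, a4, map_one, mul_one])
    (fun y hy => (Commute.map (comm_of_sq q1 hy c3) ψ).mul_right (a2 y hy)) (c7 x c1 c5) (ρ * x * ρ⁻¹)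
    (c7 _ (by
      rw [map_mul, map_mul, map_inv, conj_inv, ← c1]
      calc _ = u * ψ ρ * ψ x * (u * ψ ρ)⁻¹ := by group
        _ = _ := by rw [← a3.eq]; group) (by
      have : ρ⁻¹ * t * ρ = ρ * (ρ * t * ρ⁻¹) * ρ⁻¹ := by
        calc _ = (ρ * ρ * ρ) * (ρ⁻¹ * t * ρ) * (ρ * ρ * ρ)⁻¹ := by rw [c6]; group
          _ = _ := by group
      rw [conj_inv, ← c4, this]; group))
  refine x0 x x1 ?_
  rw [mul_eq_one_iff_eq_inv, ← c5]
  calc x = ρ⁻¹ * (ρ * x * ρ⁻¹ * t) * t⁻¹ * ρ := by group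
    _ = _ := by rw [c8]; group

omit hψ hL h2 in
theorem d_psi {F : Type} [Field F] (e : L ≃* L2 F) : ∃ ψ : L2 F →* G, Function.Injective ψ ∧ ψ.range = L :=
  ⟨L.subtype.comp e.symm.toMonoidHom, (subtype_injective _).comp e.symm.injective, by
    rw [MonoidHom.range_comp, MonoidHom.range_eq_top.2 e.symm.surjective, ← MonoidHom.range_eq_map, range_subtype]⟩

omit hψ hL h2 in
theorem RDc2 (h : TT G) (hi : IH2 G) {L : Subgroup G} [L.Normal] (h2 : L.index = 2)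
    (hC : centralizer (L : Set G) = ⊥) (h1 : IsSimpleGroup L) (h3 : SC L) : False := by
  have o : ∀ y : L, orderOf (y : G) = orderOf y := orderOf_coe
  have oc : ∀ a b : G, orderOf (a * b * a⁻¹) = orderOf b := fun a b => (MulAut.conj a).orderOf_eq b
  by_cases h4 : ∀ x : G, orderOf x ≠ 4
  · obtain ⟨F, _, _, _, hq, ⟨e⟩⟩ | ⟨⟨F, _, _, ho, hq, ⟨e⟩⟩, h8⟩ | ⟨⟨x, hx⟩, -⟩ := h3.2
    · obtain ⟨ψ, a1, a2⟩ := d_psi e
      exact d_B1 h2 ψ a1 a2 h4 hC hq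
    · obtain ⟨ψ, a1, a2⟩ := d_psi e
      exact d_B2 h2 ψ a1 a2 h h4 ho hq (Nat.card_congr e.toEquiv ▸ h8)
    · exact h4 x ((o x).trans hx)
  push Not at h4
  obtain ⟨x, hx⟩ := h4
  have hc : CIT G := (TT_cit h).resolve_right fun ⟨r, r1, r2, y, r3⟩ => by
    have := TT_two h Nat.prime_two hx.symm.dvd r3.symm.dvd (by norm_num) ⟨_, rfl⟩ (by norm_num)
      (by have := r1.two_le; omega)
    omega
  have hna : ∃ a b : L, a * b ≠ b * a := by
    by_contra! e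
    obtain ⟨a, ha⟩ := exists_ne (1 : L)
    exact ha (Subtype.ext (hC.le (mem_cent_iff.2 fun b hb => congrArg Subtype.val (e ⟨b, hb⟩ a))))
  have hO : pCore 2 G = ⊥ := eq_bot_iff.2 (sSup_le fun N ⟨n1, n2⟩ => by
    rcases (n1.subgroupOf L).eq_bot_or_eq_top with e | e
    · exact hC ▸ fun a ha => mem_cent_iff.2 fun b hb =>
        (commute_of_normal_of_disjoint N L n1 ‹_› (subgroupOf_eq_bot.1 e) a b ha hb).eq.symm
    · obtain ⟨a, b, e'⟩ := hna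
      exact absurd (IsSimpleGroup.comm_iff_isSolvable.2 (isSolvable_of_isPGroup
        (n2.to_le (subgroupOf_eq_top.1 e))) a b) e')
  have x2 : ∀ y : G, orderOf y = 4 → orderOf (y ^ 2) = 2 := fun y e => by rw [orderOf_pow, e]; rfl
  have x3 : ∀ y : G, orderOf y = 4 → IsPGroup 2 (zpowers y) := fun y e =>
    .of_card (n := 2) ((Nat.card_zpowers y).trans e)
  obtain ⟨M, hM⟩ | ⟨V, A, q, c1, c2, c3⟩ := A3 hc hO hi (even_iff_two_dvd.2
    ((x2 x hx).symm.dvd.trans (orderOf_dvd_natCard _)))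
  · obtain ⟨m1, -, m2⟩ := (H3.isStronglyEmbedded_iff M).1 hM
    obtain ⟨P, p1⟩ := exists_syl 2 M
    obtain ⟨⟨t, t1⟩, t2⟩ := exists_prime_orderOf_dvd_card' 2 (G := P) (by
      obtain ⟨n, hn⟩ := p1.isPGroup.exists_card_eq
      exact hn ▸ dvd_pow_self 2 fun e => p1.ne_bot hM.2.1.two_dvd (card_eq_one.1 (by rw [hn, e, pow_zero])))
    have p2 := p1.of_normalizer_le le_top fun g hg =>
      m2 g t (p1.le t1) ((orderOf_mk t t1).symm.trans t2) (p1.le (conj_mem_of_mem_normalizer hg.2 t1))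
    obtain ⟨c, a1, a2⟩ := SetLike.not_le_iff_exists.1 (d_syl h2 p2)
    replace a1 := p1.le a1
    obtain ⟨g, a3, a4⟩ : ∃ g ∈ L, g ∉ M := SetLike.not_le_iff_exists.1 fun e => m1 (eq_top_iff.2 fun y _ => by
      by_cases e' : y ∈ L
      · exact e e'
      · exact (mul_mem_cancel_right a1).1 (e ((mul_mem_iff_of_index_two h2).2 (iff_of_false e' a2))))
    obtain ⟨z, -, a5⟩ := p2.exists_le_cj (x3 x hx) le_top
    obtain ⟨⟨m, a6⟩, a7, a8⟩ := (BE hna (fun y e => Subtype.ext (hc y (o y ▸ e))) (M := M.subgroupOf L)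
      ((H3.isStronglyEmbedded_iff _).2 ⟨fun e => a4 (subgroupOf_eq_top.1 e a3),
        ⟨⟨(z⁻¹ * x * z) ^ 2, sq_mem_of_index_two h2 _⟩, pow_mem (p1.le (mem_cj.1 (a5 (mem_zpowers x)))) 2,
          (o _).symm.trans (x2 _ (by simpa using (oc z⁻¹ x).trans hx))⟩,
        fun g t b1 b2 b3 => m2 g t b1 ((o t).trans b2) b3⟩)).1 ⟨g, a3⟩ a4
      ⟨c * g * c⁻¹, Normal.conj_mem ‹_› g a3 c⟩ fun e => a4 (by
        simpa [mul_assoc] using mul_mem (mul_mem (inv_mem a1) (mem_subgroupOf.1 e)) a1)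
    have a9 : g⁻¹ * (c⁻¹ * m) * g⁻¹⁻¹ ∈ M := by
      simpa [mul_assoc] using mul_mem (inv_mem a1) (mem_subgroupOf.1 a8)
    obtain ⟨k, hk⟩ := Nat.not_odd_iff_even.1 fun e =>
      a2 (inv_mem_iff.1 ((mul_mem_cancel_right a6).1 (d_odd h2 (g := c⁻¹ * m) e)))
    have := orderOf_pos (c⁻¹ * m)
    refine a4 (inv_mem_iff.1 (m2 g⁻¹ ((c⁻¹ * m) ^ k) (pow_mem (mul_mem (inv_mem a1) a7) k) ?_
      (by rw [← conj_pow]; exact pow_mem a9 k)))
    rw [orderOf_pow, hk, ← two_mul, Nat.gcd_mul_left_left, Nat.mul_div_cancel _ (by omega)]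
  obtain ⟨rfl, ρ, r1, r2⟩ | c3 := c3
  swap
  · have : ∀ y : G, y * y = 1 → y ∈ L := fun y e => by
      by_cases e' : y = 1
      · exact e' ▸ one_mem _
      obtain ⟨c, rfl⟩ := isConj_iff.1 ((A5 hc hO hi c1 c2 c3).2.2 _ _ (x2 x hx) (H3.orderOf_two_of_mul_self e e'))
      exact Normal.conj_mem ‹_› _ (sq_mem_of_index_two h2 _) c
    exact d_syl h2 c2 (sup_le (fun y hy => this y (c1.eV y hy)) fun y hy => this y (c1.eA y hy))
  have b0 : ∀ ρ c : G, orderOf ρ = 3 → c ^ 4 = 1 → ρ * c = c * ρ → c ∈ L := fun ρ c e e1 e2 =>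
    a2_free hc (by rw [e]; decide) (by rintro rfl; simp at e) e1 e2 ▸ one_mem L
  have pV := c2.isPGroup.to_le le_sup_left
  have b1 : V ≤ L := (d_fix h2 pV r1 (by rw [r2]; decide)).trans (sup_le (fun c hc' =>
    b0 ρ c r2 (a2_four hc pV hc'.1) (mem_cent1_iff.1 hc'.2).symm) le_rfl)
  have b2 : (V ⊔ A) ⊓ L = V := (eq_of_le_of_card_ge (le_inf le_sup_left b1) (by
    have a1 := card_lt_of_lt (lt_of_le_of_ne (inf_le_left : (V ⊔ A) ⊓ L ≤ _) fun e => d_syl h2 c2 (inf_eq_left.1 e))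
    obtain ⟨k, a2⟩ := card_dvd_of_le (inf_le_left : (V ⊔ A) ⊓ L ≤ _)
    rw [c1.cS] at a1 a2
    rw [c1.cV]
    rcases k with _ | _ | k <;> nlinarith)).symm
  have b3 : ∀ y : L, orderOf y ≠ 4 := fun y e => by
    obtain ⟨z, -, a⟩ := (b2 ▸ c2.inf_of_nrm ⟨le_top, (normalizer_eq_top L).ge⟩ : Syl 2 V L).exists_le_cj
      (x3 _ ((o y).trans e)) (zpowers_le.2 y.2)
    have := orderOf_dvd_of_pow_eq_one ((sq _).trans (c1.eV _ (mem_cj.1 (a (mem_zpowers _)))))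
    rw [show orderOf (z⁻¹ * y * z) = 4 by simpa using (oc z⁻¹ y).trans ((o y).trans e)] at this
    omega
  obtain ⟨F, _, _, _, hq, ⟨e⟩⟩ | ⟨⟨F, _, _, ho, hq, ⟨e⟩⟩, h8⟩ | ⟨⟨x, hx⟩, -⟩ := h3.2
  · obtain ⟨u, -, a1⟩ := SetLike.not_le_iff_exists.1 (d_syl h2 c2)
    have a2 := d_odd h2 (g := ρ) (by rw [r2]; decide)
    obtain ⟨c, a3⟩ := isConj_iff.1 (e.symm.toMonoidHom.map_isConj ((F8 (F := F)).2
      (e ⟨_, Normal.conj_mem ‹_› ρ a2 u⟩) (e ⟨ρ, a2⟩) (by rw [e.orderOf_eq, ← o, oc, r2])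
      (by rw [e.orderOf_eq, ← o, r2])))
    have a4 : (c : G) * u ∉ L := by rwa [mul_mem_cancel_left c.2]
    refine a4 (b0 ρ _ r2 (hc _ (Nat.not_odd_iff_even.1 fun e => a4 (d_odd h2 e))) (mul_inv_eq_iff_eq_mul.1 ?_).symm)
    simpa [mul_assoc] using congrArg Subtype.val a3
  · obtain ⟨K, s, H, ⟨g, hg⟩, -⟩ := F2 ho hq (t := e ⟨x ^ 2, sq_mem_of_index_two h2 _⟩) (by
      rw [e.orderOf_eq, ← o, x2 x hx])
    have g1 : orderOf (e.symm g) = ♯K := (e.symm.orderOf_eq _).trans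
      ((orderOf_coe g).trans (orderOf_eq_card_of_forall_mem_zpowers hg))
    refine b3 _ (g1.trans ((Nat.le_of_dvd four_pos ?_).antisymm H.four))
    rw [← g1, ← o]
    exact orderOf_dvd_of_pow_eq_one (hc _ (by
      rw [o, g1]; exact even_iff_two_dvd.2 (H.t2.symm.dvd.trans (orderOf_dvd_natCard K H.tK))))
  · exact b3 x hx

end Cfsg.Agent.OC
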