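import Cfsg.Agent.OC.RDa
import Cfsg.Agent.OC.BE
import Cfsg.Agent.OC.PG
import Cfsg.Agent.BW.Main

/-! Piece SB: simple groups with an element of order `2 r`. -/

set_option autoImplicit false
set_option linter.unusedSectionVars false

namespace Cfsg.Agent.OC

open Subgroup Cfsg.Agent.FT Cfsg.Agent.MC

universe u
variable {G : Type u} [Group G] [Finite G] {r : ℕ} {x t s n u : G} {H S X Y Z : Subgroup G}

theorem sb_one (h : L2e G) : OneCl G := fun t u ht hu => by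
  obtain ⟨F, _, _, _, -, ⟨e⟩⟩ := h
  simpa using e.symm.toMonoidHom.map_isConj
    (F8.1 (e t) (e u) ((e.orderOf_eq t).trans ht) ((e.orderOf_eq u).trans hu))

/-- solvable groups with an abelian Sylow 2-subgroup -/
theorem sb_core (hs : Group.IsSolvable H) (hS : Syl 2 S H) (c : S ≤ 𝐂(S)) :
    H ≤ core {2}ᶜ H ⊔ (H ⊓ 𝐍(S)) ∧ ∀ Z ≤ H, PiG {2}ᶜ Z → S ≤ 𝐍(Z) → Z ≤ core {2}ᶜ H := by
  have a2 : S ≤ core2 {2}ᶜ {2} H := le_trans (le_inf hS.le (c.trans (cent_anti inf_le_left)))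
    (solvable_p_constrained hs (hS.inf_of_nrm (core2_nrm _ _ _)))
  have e := core2_eq_sup (π := {2}ᶜ) hS.hall
  rw [inf_eq_left.2 a2] at e
  have nO := (core_nrm {2}ᶜ H).norm
  refine ⟨?_, fun Z hZ o n => ?_⟩
  · refine (Syl.frattini' (hS.of_le a2 (core2_le _ _ _)) (core2_nrm _ _ _)).ge.trans ?_
    rw [e]
    exact sup_le (sup_le le_sup_left (le_sup_of_le_right (le_inf hS.le le_normalizer))) le_sup_right
  have e1 := bar_core2 {2}ᶜ {2} H
  rw [e, bar_self_sup (hS.le.trans nO)] at e1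
  have e2 := cent_pcore_le (p := 2) (isSolvable_bar hs _) (core_bar_core {2}ᶜ H)
  rw [← e1] at e2
  have e3 := (hS.hall.piG.bar (core {2}ᶜ H)).inf_eq_bot (o.bar _)
  rw [← bar_eq_bot_iff (hZ.trans nO), ← le_bot_iff, ← e3]
  refine le_inf (le_trans (le_inf (bar_mono _ hZ) (le_cent_of_inf_eq_bot ?_ (bar_le_normalizer _ n)
    (by rwa [inf_comm]))) e2) le_rfl
  rw [e1]
  exact (bar_mono _ hZ).trans (core_nrm _ _).norm

/-- the configuration with a Sylow four-group -/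
structure SBH (r : ℕ) (x t s : G) (S : Subgroup G) : Prop where
  tt : TT G
  pr : r.Prime
  ne2 : r ≠ 2
  ord : orderOf x = 2 * r
  syl : Syl 2 S ⊤
  sq : ∀ a ∈ S, a * a = 1
  tS : t ∈ S
  sS : s ∈ S
  t1 : t ≠ 1
  s1 : s ≠ 1
  ne : t ≠ s
  card : ♯S = 4

namespace SBH

variable (h : SBH r x t s S)
include h

theorem cm {a b : G} (ha : a ∈ S) (hb : b ∈ S) : a * b = b * a := comm_of_sq h.sq ha hb
theorem cS : S ≤ 𝐂(S) := fun _ ha => mem_cent_iff.2 fun _ hb => h.cm hb ha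
theorem o2 (hu : u ∈ S) (h1 : u ≠ 1) : orderOf u = 2 := orderOf_eq_prime (pow_two u ▸ h.sq u hu) h1
theorem mul_ne {a b : G} (hb : b ∈ S) (e : a ≠ b) : a * b ≠ 1 := fun k =>
  e (mul_right_cancel (k.trans (h.sq b hb).symm))

theorem four {a b : G} (ha : a ∈ S) (hb : b ∈ S) (a1 : a ≠ 1) (b1 : b ≠ 1) (e : a ≠ b) (hu : u ∈ S) :
    u = 1 ∨ u = a ∨ u = b ∨ u = a * b := by
  classical
  have e1 := h.mul_ne hb e
  have e2 : ({1, a, b, a * b} : Finset G).card = 4 := by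
    rw [Finset.card_insert_of_notMem (by simp [a1.symm, b1.symm, e1.symm]),
      Finset.card_insert_of_notMem (by simp [e, b1]), Finset.card_pair (by simp [a1])]
  have e3 : ({1, a, b, a * b} : Finset G) ⊆ els S := fun v hv => by
    simp only [Finset.mem_insert, Finset.mem_singleton] at hv
    rcases hv with rfl | rfl | rfl | rfl
    exacts [mem_els.2 (one_mem _), mem_els.2 ha, mem_els.2 hb, mem_els.2 (mul_mem ha hb)]
  simpa using (Finset.eq_of_subset_of_card_le e3 (by rw [card_els, h.card, e2])).ge (mem_els.2 hu)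

theorem odd_pow (hn : n ∈ 𝐍(S)) (e : 2 ∣ orderOf n) : n ^ r ∈ S ∧ n ^ r ≠ 1 := by
  have : orderOf (n ^ r) = 2 := by
    rcases sb_ord2 h.tt h.pr h.ord e with k | k
    · rw [Nat.Coprime.orderOf_pow (by rw [k]; exact (h.pr.odd_of_ne_two h.ne2).coprime_two_left), k]
    · rw [orderOf_pow_of_dvd h.pr.ne_zero (k ▸ dvd_mul_left _ _), k, Nat.mul_div_cancel _ h.pr.pos]
  exact ⟨sb_mem h.syl (pow_mem hn r) this, fun k => by simp [k] at this⟩

theorem fix (hn : n ∈ 𝐍(S)) (hu : u ∈ S) (h1 : u ≠ 1) (e : n * u = u * n) : n ∈ 𝐂(S) := by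
  obtain ⟨v, hv, v1, uv⟩ : ∃ v ∈ S, v ≠ 1 ∧ u ≠ v := by
    by_cases k : u = t
    exacts [⟨s, h.sS, h.s1, k ▸ h.ne⟩, ⟨t, h.tS, h.t1, k⟩]
  have c : n * u * n⁻¹ = u := mul_inv_eq_iff_eq_mul.2 e
  have n2 : n ^ 2 ∈ 𝐂(S) := by
    have k : n * (n * v * n⁻¹) * n⁻¹ = v := by
      rcases h.four hu hv h1 v1 uv (conj_mem_of_mem_normalizer hn hv) with k | k | k | k
      · exact absurd (conj_eq_one_iff.1 k) v1
      · exact absurd (by simpa using k.trans c.symm) uv.symm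
      · rw [k, k]
      · rw [k, ← conj_mul, c, k, ← mul_assoc, h.sq u hu, one_mul]
    have cu : Commute u (n ^ 2) := (Commute.symm e).pow_right 2
    have cv : Commute v (n ^ 2) := by
      rw [Commute, SemiconjBy, eq_comm, ← mul_inv_eq_iff_eq_mul, pow_two]
      simpa [mul_assoc] using k
    refine mem_cent_iff.2 fun a ha => ?_
    rcases h.four hu hv h1 v1 uv ha with rfl | rfl | rfl | rfl
    exacts [by simp, cu, cv, cu.mul_left cv]
  obtain ⟨k, hk⟩ : ∃ k, n ^ (2 * k + 1) ∈ 𝐂(S) := by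
    rcases Nat.even_or_odd (orderOf n) with o | ⟨k, o⟩
    · obtain ⟨k, hk⟩ := h.pr.odd_of_ne_two h.ne2
      exact ⟨k, hk ▸ h.cS (h.odd_pow hn o.two_dvd).1⟩
    · exact ⟨k, by rw [← o, pow_orderOf_eq_one]; exact one_mem _⟩
  rw [pow_succ, pow_mul] at hk
  exact (Subgroup.mul_mem_cancel_left _ (pow_mem n2 k)).1 hk

theorem ordr {y : G} (o : Odd (orderOf y)) (h1 : y ≠ 1) (hu : orderOf u = 2) (e : u * y = y * u) :
    orderOf y = r := by
  have e := sb_mul o hu e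
  have := sb_ord2 h.tt h.pr h.ord (e ▸ dvd_mul_right _ _)
  have := mt orderOf_eq_one_iff.1 h1
  omega

theorem three (hn : n ∈ 𝐍(S)) (h1 : n ∉ 𝐂(S)) : n ^ 3 = 1 := by
  have mv : ∀ u ∈ S, u ≠ 1 → n * u * n⁻¹ ≠ u := fun u hu u1 e =>
    h1 (h.fix hn hu u1 (mul_inv_eq_iff_eq_mul.1 e))
  have a1 := conj_mem_of_mem_normalizer hn h.tS
  have a2 := mv t h.tS h.t1
  have a3 : n * t * n⁻¹ ≠ 1 := fun e => h.t1 (conj_eq_one_iff.1 e)
  have n3 : n ^ 3 * t = t * n ^ 3 := by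
    rw [← mul_inv_eq_iff_eq_mul, show n ^ 3 * t * (n ^ 3)⁻¹ = n * (n * (n * t * n⁻¹) * n⁻¹) * n⁻¹ by
      simp [pow_succ, mul_assoc]]
    generalize hw : n * t * n⁻¹ = w at *
    rcases h.four h.tS a1 h.t1 a3 a2.symm (conj_mem_of_mem_normalizer hn a1) with k | k | k | k
    · exact absurd (conj_eq_one_iff.1 k) a3
    · exact absurd (by rw [← conj_mul, hw, k, h.cm a1 h.tS])
        (mv _ (mul_mem h.tS a1) (h.mul_ne a1 a2.symm))
    · exact absurd k (mv w a1 a3)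
    · rw [k, ← conj_mul, hw, k, h.cm h.tS a1, ← mul_assoc, h.sq w a1, one_mul]
  by_contra y1
  have o : Odd (orderOf n) := Nat.not_even_iff_odd.1 fun e =>
    let ⟨k1, k2⟩ := h.odd_pow hn e.two_dvd
    h1 (h.fix hn k1 k2 ((Commute.refl n).pow_right r))
  have e1 := h.ordr (o.of_dvd_nat (orderOf_pow_dvd 3)) y1 (h.o2 h.tS h.t1) n3.symm
  have e2 : orderOf n = r := (sb_ordr h.tt h.pr h.ord (e1 ▸ orderOf_pow_dvd 3)).resolve_right
    fun e => (e ▸ o).not_two_dvd_nat (dvd_mul_right _ _)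
  refine h1 ((zpowers_le (G := G)).2 (h.fix (pow_mem hn 3) h.tS h.t1 n3) ?_)
  rw [eq_zpowers_of_card_prime (X := zpowers n) (by rw [Nat.card_zpowers, e2]; exact h.pr)
    (pow_mem (mem_zpowers n) 3) y1]
  exact mem_zpowers n

theorem odd (hX : IsPGroup r X) : PiG {2}ᶜ X :=
  haveI := Fact.mk h.pr
  piG_compl_of_isPGroup_ne hX h.ne2

theorem oo {y : G} (hX : PiG {2}ᶜ X) (hy : y ∈ X) : Odd (orderOf y) := Nat.odd_iff.2 (by
  have := (piNum_compl_singleton Nat.prime_two).1 (hX.piE hy)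
  omega)

theorem pgroup (o : PiG {2}ᶜ X) (hn : S ≤ 𝐍(X)) : IsPGroup r X := by
  haveI := Fact.mk h.pr
  refine piG_singleton_iff.1 fun p hp d => ?_
  haveI := Fact.mk hp
  obtain ⟨R, hR, nR⟩ := exists_invariant_syl p hn (coprime_of_isPGroup h.syl.isPGroup o)
    (.inl (isSolvable_of_isPGroup h.syl.isPGroup))
  obtain ⟨y, hy, y1⟩ := exists_ne_one_of_ne_bot (hR.ne_bot d)
  by_contra ne
  have fr : ∀ a ∈ S, a ≠ 1 → ∀ y ∈ R, a * y = y * a → y = 1 := fun a ha a1 y hy e => by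
    by_contra y1
    have := h.ordr (h.oo o (hR.le hy)) y1 (h.o2 ha a1) e
    exact (piNum_compl_singleton h.pr).1 ((piG_compl_of_isPGroup_ne hR.isPGroup ne).piE hy) this.symm.dvd
  exact y1 (fr _ (mul_mem h.tS h.sS) (h.mul_ne h.sS h.ne) y hy (sb_klein (h.sq t h.tS) (h.sq s h.sS)
    (nR h.tS) (nR h.sS) (fr t h.tS h.t1) (fr s h.sS h.s1) hy))

theorem loc (hX : IsPGroup r X) (hn : S ≤ 𝐍(X)) (h0 : X ≠ ⊥) :
    (IsPGroup r (core {2}ᶜ 𝐍(X)) ∧ S ≤ 𝐍(core {2}ᶜ 𝐍(X))) ∧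
    𝐍(X) ≤ core {2}ᶜ 𝐍(X) ⊔ (𝐍(X) ⊓ 𝐍(S)) ∧
    ∀ Z ≤ 𝐍(X), IsPGroup r Z → S ≤ 𝐍(Z) → Z ≤ core {2}ᶜ 𝐍(X) := by
  have hs : Group.IsSolvable 𝐍(X) := by
    by_contra e
    haveI : (X.subgroupOf 𝐍(X)).Normal := normal_in_normalizer
    have := RDa (TT_sub h.tt _) e h.pr h.ne2 (X.subgroupOf 𝐍(X)) (hX.comap_subtype)
    rw [subgroupOf_eq_bot, disjoint_iff, inf_eq_left.2 le_normalizer] at this
    exact h0 this
  have k := sb_core hs (h.syl.of_le hn le_top) h.cS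
  have n := hn.trans (core_nrm {2}ᶜ 𝐍(X)).norm
  exact ⟨⟨h.pgroup (core_piG _ _) n, n⟩, k.1, fun Z a b c => k.2 Z a (h.odd b) c⟩

theorem alt (hX : IsPGroup r X) (hS : S ≤ 𝐍(X)) (h1 : n ∈ 𝐍(X)) (h2 : n ∈ 𝐍(S)) (h3 : n ∉ 𝐂(S)) :
    X ≤ 𝐂(S) := by
  haveI := Fact.mk h.pr
  have co := coprime_of_isPGroup h.syl.isPGroup (h.odd hX)
  have i0 := inf_eq_bot_of_coprime' co
  have n3 := h.three h2 h3
  have a1 : S ≤ 𝐍(phi X) := le_normalizer_phi hS
  have a2 : X ≤ 𝐍(phi X) := (phi_nrm X).norm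
  have a3 : n ∈ 𝐍(phi X) := le_normalizer_phi le_rfl h1
  refine le_cent_of_commutator_le_phi hS co ((bar_le_cent_iff a2 a1).1 (by_contra fun e => ?_))
  obtain ⟨v, hv, e1⟩ := FM (V := bar (phi X) X) (U := bar (phi X) S) (k := coset (phi X) n) (n := 3)
    (fun a ha b hb => mem_cent_iff.1 (comm_iff_le_cent.1 ((comm_bar_iff a2).2 (der_le_phi hX)) hb) a ha)
    (bar_le_normalizer _ hS) (coset_mem_normalizer_bar a3 h1) (coset_mem_normalizer_bar a3 h2)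
    (coprime_bar co _) (by norm_num) (fun i i1 i3 u hu k => by
      obtain ⟨u, uS, rfl⟩ := (mem_bar' a1).1 hu
      have p := pow_mem a3 i
      rw [← coset_pow a3, ← coset_mul (a1 uS) p, ← coset_mul p (a1 uS), eq_comm, ← mul_inv_eq_one,
        ← coset_inv (mul_mem (a1 uS) p), ← coset_mul (mul_mem p (a1 uS)) (inv_mem (mul_mem (a1 uS) p)),
        coset_eq_one_iff (mul_mem (mul_mem p (a1 uS)) (inv_mem (mul_mem (a1 uS) p)))] at k
      have k1 : n ^ i * u * (u * n ^ i)⁻¹ = 1 := i0.le ⟨by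
        simpa [mul_assoc] using mul_mem (conj_mem_of_mem_normalizer (pow_mem h2 i) uS) (inv_mem uS),
        phi_le X k⟩
      by_contra u1
      have := h.fix (pow_mem h2 i) uS (fun e => u1 (by rw [e, coset_one])) (mul_inv_eq_one.1 k1)
      interval_cases i
      · exact h3 (by simpa using this)
      · exact h3 (by simpa [← pow_mul, pow_succ _ 3, n3] using pow_mem this 2)) (by
      by_contra! k
      exact e fun v hv => mem_cent_iff.2 (k v hv))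
  obtain ⟨v, vX, rfl⟩ := (mem_bar' a2).1 hv
  rw [← coset_mul (a2 vX) a3, ← coset_pow (mul_mem (a2 vX) a3), ← coset_pow a3, n3,
    sb_fm h.tt h.pr h.ne2 h.ord hX Nat.prime_three (by norm_num) n3 (fun nX => h3
      (mem_cent_iff.2 fun u hu => ?_)) h1 vX] at e1
  · exact e1 rfl
  have : u * n * u⁻¹ * n⁻¹ = 1 := i0.le ⟨by
    simpa [mul_assoc] using mul_mem hu (conj_mem_of_mem_normalizer h2 (inv_mem hu)),
    X.mul_mem (conj_mem_of_mem_normalizer (hS hu) nX) (X.inv_mem nX)⟩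
  rwa [mul_inv_eq_one, mul_inv_eq_iff_eq_mul] at this

omit h in
theorem mx_cj (hX : Maximal (fun X : Subgroup G => IsPGroup r X ∧ S ≤ 𝐍(X)) X) (hn : n ∈ 𝐍(S)) :
    Maximal (fun X : Subgroup G => IsPGroup r X ∧ S ≤ 𝐍(X)) (cj n X) := by
  have cjI : ∀ g ∈ 𝐍(S), ∀ Z : Subgroup G, IsPGroup r Z ∧ S ≤ 𝐍(Z) →
      IsPGroup r (cj g Z) ∧ S ≤ 𝐍(cj g Z) := fun g hg Z hZ => ⟨isPGroup_cj g hZ.1, by
    rw [← cj_normalizer, ← cj_eq_iff_mem_normalizer.2 hg]; exact cj_mono g hZ.2⟩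
  refine ⟨cjI n hn X hX.prop, fun Z hZ le => ?_⟩
  have := cj_mono n (hX.2 (cjI _ (inv_mem hn) Z hZ) (cj_le_iff_le_cj_inv.1 le))
  rwa [← cj_mul, mul_inv_cancel, cj_one] at this

theorem uniq (hX : Maximal (fun X : Subgroup G => IsPGroup r X ∧ S ≤ 𝐍(X)) X)
    (hY : Maximal (fun X : Subgroup G => IsPGroup r X ∧ S ≤ 𝐍(X)) Y) (h0 : X ⊓ Y ≠ ⊥) : X = Y := by
  haveI := Fact.mk h.pr
  by_contra ne
  obtain ⟨⟨X, Y⟩, ⟨hX, hY, h0, ne⟩, mx⟩ := Set.exists_max_image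
    {p : Subgroup G × Subgroup G | Maximal (fun X : Subgroup G => IsPGroup r X ∧ S ≤ 𝐍(X)) p.1 ∧
      Maximal (fun X : Subgroup G => IsPGroup r X ∧ S ≤ 𝐍(X)) p.2 ∧ p.1 ⊓ p.2 ≠ ⊥ ∧ p.1 ≠ p.2}
    (fun p => ♯(p.1 ⊓ p.2 : Subgroup G)) (Set.toFinite _) ⟨(X, Y), hX, hY, h0, ne⟩
  have n := le_normalizer_inf hX.prop.2 hY.prop.2
  obtain ⟨k1, -, k3⟩ := h.loc (isPGroup_of_le inf_le_left hX.prop.1) n h0
  obtain ⟨W, OW, hW⟩ := Finite.exists_le_maximal (p := fun X : Subgroup G => IsPGroup r X ∧ S ≤ 𝐍(X)) k1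
  have key : ∀ Z, Maximal (fun X : Subgroup G => IsPGroup r X ∧ S ≤ 𝐍(X)) Z → X ⊓ Y < Z → Z = W :=
    fun Z hZ lt => by
    by_contra e
    have l2 := (lt_inf_normalizer (isNilpotent_of_isPGroup hZ.prop.1) lt).trans_le (le_inf inf_le_left
      ((k3 _ inf_le_right (isPGroup_of_le inf_le_left hZ.prop.1) (le_normalizer_inf hZ.prop.2
        (n.trans le_normalizer))).trans OW))
    exact (mx (Z, W) ⟨hZ, hW, (bot_le.trans_lt l2).ne', e⟩).not_gt (card_lt_of_lt l2)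
  exact ne ((key X hX (inf_lt_left.2 fun e => ne (hX.eq_of_le hY.prop e))).trans
    (key Y hY (inf_lt_right.2 fun e => ne (hY.eq_of_le hX.prop e).symm)).symm)

theorem cen : 𝐂[t] = core {2}ᶜ 𝐂[t] ⊔ S ∧ ∀ y ∈ 𝐂[t], Odd (orderOf y) → y ∈ core {2}ᶜ 𝐂[t] := by
  have a1 := h.syl.of_le (le_cent1_iff.2 (h.cS h.tS)) le_top
  have k : PNil 2 𝐂[t] := Burnside_normal_complement a1 fun n hn =>
    h.fix hn.2 h.tS h.t1 (mem_cent1_iff.1 hn.1)
  refine ⟨(Hall.sup_eq k (by simpa using Syl.hall a1)).symm, fun y hy o => Hall.mem_of_nrm k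
    (core_nrm _ _).norm hy ((piNum_compl_singleton Nat.prime_two).2 o.not_two_dvd_nat)⟩

end SBH

theorem sb_a [IsSimpleGroup G] (hna : ∃ a b : G, a * b ≠ b * a) {S : Sylow 2 G} (H : SBH r x t s S)
    (one : OneCl G) : L2e G ∨ ((∀ y ∈ core {2}ᶜ 𝐂[t], s * y * s⁻¹ = y⁻¹) ∧
      ∀ y ∈ core {2}ᶜ 𝐂[t], y ≠ 1 → 𝐂[y] ≤ 𝐂[t]) := by
  have ⟨h, hr, h2, hx, hS, eS, tS, sS, t1, s1, ts, c4⟩ := H
  have ot := H.o2 tS t1
  have fus : ∀ u ∈ (S : Subgroup G), u ≠ 1 → ∃ n ∈ 𝐍((S : Subgroup G)), n * t * n⁻¹ = u := fun u hu u1 => by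
    obtain ⟨g, rfl⟩ := isConj_iff.1 (one t u ot (H.o2 hu u1))
    obtain ⟨n, hn, e⟩ := hS.fusion_elt_of_comm (comm_iff_le_cent.2 H.cS) t tS g trivial hu
    exact ⟨n, hn.2, e⟩
  obtain ⟨c1, c2⟩ := H.cen
  have St : (S : Subgroup G) ≤ 𝐂[t] := le_cent1_iff.2 (H.cS tS)
  have Pt := core_le {2}ᶜ 𝐂[t]
  have nP := St.trans (core_nrm {2}ᶜ 𝐂[t]).norm
  have pP := H.pgroup (core_piG {2}ᶜ 𝐂[t]) nP
  generalize core {2}ᶜ 𝐂[t] = P at *
  obtain ⟨X, PX, hX⟩ := Finite.exists_le_maximal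
    (p := fun X : Subgroup G => IsPGroup r X ∧ (S : Subgroup G) ≤ 𝐍(X)) ⟨pP, nP⟩
  by_cases hn : ∃ n ∈ 𝐍(X), n ∈ 𝐍((S : Subgroup G)) ∧ n ∉ 𝐂((S : Subgroup G))
  · obtain ⟨n, a1, a2, a3⟩ := hn
    have := PX.trans (H.alt hX.prop.1 hX.prop.2 a1 a2 a3)
    refine .inl (BA hna S (M := 𝐍((S : Subgroup G))) (fun e => ?_) le_rfl (fun u hu o => ?_)
      (.inl fun a ha b hb => H.cm ha hb))
    · rcases (normalizer_eq_top_iff.1 e).eq_bot_or_eq_top with e | e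
      · exact t1 (e.le tS)
      · obtain ⟨a, b, k⟩ := hna
        exact k (H.cm (e.ge trivial) (e.ge trivial))
    · obtain ⟨m, hm, rfl⟩ := fus u hu fun e => by simp [e] at o
      rw [← cj_cent1, cj_le_iff]
      exact fun g hg => mul_mem (mul_mem hm ((c1.le.trans (sup_le (this.trans (cent_le_norm _))
        le_normalizer)) hg)) (inv_mem hm)
  push Not at hn
  have oX := fun y => H.oo (y := y) (H.odd hX.prop.1)
  have fr : ∀ u ∈ (S : Subgroup G), u ≠ 1 → t ≠ u → ∀ y ∈ X, u * y = y * u → y = 1 :=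
    fun u hu u1 tu y hy e => by
    obtain ⟨n, nS, rfl⟩ := fus u hu u1
    by_contra y1
    have := H.uniq hX (SBH.mx_cj hX nS)
      (ne_bot_of_mem (x := y) ⟨hy, mem_cj.2 (PX (c2 _ (mem_cent1_iff.2 (by
        apply (MulAut.conj n).injective; simpa [mul_assoc] using e.symm)) (by
        have := oX y hy
        rw [← (MulAut.conj n⁻¹).orderOf_eq y] at this
        simpa using this)))⟩ y1)
    exact tu (mul_inv_eq_iff_eq_mul.2 (mem_cent_iff.1
      (hn n (cj_eq_iff_mem_normalizer.1 this.symm) nS) t tS).symm).symm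
  have ss := eS s sS
  obtain rfl : P = X := le_antisymm PX fun y hy => c2 y (mem_cent1_iff.2 (by
    have := sb_klein (eS _ (mul_mem tS sS)) ss (hX.prop.2 (mul_mem tS sS)) (hX.prop.2 sS)
      (fr _ (mul_mem tS sS) (H.mul_ne sS ts) (by simpa using s1)) (fr s sS s1 ts) hy
    rwa [mul_assoc t, ss, mul_one, eq_comm] at this)) (oX y hy)
  have iv : ∀ y ∈ P, s * y * s⁻¹ = y⁻¹ := fun y hy =>
    H3.inverts_of_fixedPointFree ss (nP sS) (fr s sS s1 ts) hy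
  have ct : ∀ y ∈ P, y * t = t * y := fun y hy => mem_cent1_iff.1 (Pt hy)
  refine .inr ⟨iv, fun y hy y1 => ?_⟩
  · have a1 : ∀ g, g * y * g⁻¹ = y ∨ g * y * g⁻¹ = y⁻¹ → g ∈ 𝐍(zpowers y) := fun g e =>
      mem_normalizer_of_cj_le (by
        rw [cj_zpowers, zpowers_le]
        rcases e with e | e <;> rw [e]
        exacts [mem_zpowers y, inv_mem (mem_zpowers y)])
    have a2 : 𝐂[y] ≤ 𝐍(zpowers y) := fun g hg => a1 g (.inl (mul_inv_eq_iff_eq_mul.2 (mem_cent1_iff.1 hg)))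
    have a3 := a2 (mem_cent1_iff.2 (ct y hy).symm)
    have a4 := a1 s (.inr (iv y hy))
    obtain ⟨k1, k2, k3⟩ := H.loc (X := zpowers y) (isPGroup_of_le ((zpowers_le (G := G)).2 hy) pP)
      (fun a ha => by
        rcases H.four tS sS t1 s1 ts ha with rfl | rfl | rfl | rfl
        exacts [one_mem _, a3, a4, mul_mem a3 a4]) (by rwa [Ne, zpowers_eq_bot])
    have e := hX.eq_of_le k1 (k3 P (fun g hg => a2 (mem_cent1_iff.2 (BW.comm_of_inv iv hg hy))) pP nP)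
    have nO := (core_nrm {2}ᶜ 𝐍(zpowers y)).norm
    rw [← e] at k2 nO
    exact a2.trans (k2.trans (sup_le Pt fun g hg => cent_le_cent1 tS (hn g (nO hg.1) hg.2)))

theorem sb_b (H : SBH r x t s S) (one : OneCl G) {P : Subgroup G} (c1 : 𝐂[t] = P ⊔ S) (pP : IsPGroup r P)
    (nP : S ≤ 𝐍(P)) (cP : 3 ≤ ♯P) (iv : ∀ y ∈ P, s * y * s⁻¹ = y⁻¹) (ti : ∀ y ∈ P, y ≠ 1 → 𝐂[y] ≤ 𝐂[t]) :
    L2o G := by
  classical
  have ⟨h, hr, h2, hx, hS, eS, tS, sS, t1, s1, ts, c4⟩ := H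
  have ot := H.o2 tS t1
  have ss := eS s sS
  have tt := eS t tS
  have Pt : P ≤ 𝐂[t] := le_sup_left.trans c1.ge
  have St : S ≤ 𝐂[t] := le_sup_right.trans c1.ge
  have ct : ∀ y ∈ P, y * t = t * y := fun y hy => mem_cent1_iff.1 (Pt hy)
  have oX := fun y => H.oo (y := y) (H.odd pP)
  have zt : ∀ a ∈ zpowers t, a = 1 ∨ a = t := fun a ha => by
    rw [mem_zpowers_iff_mem_range_orderOf, ot] at ha
    simpa [Finset.range_add_one, eq_comm, or_comm] using ha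
  have mK : ∀ k, k ∈ P ⊔ zpowers t ↔ ∃ p ∈ P, k = p ∨ k = p * t := fun k => by
    rw [H2.mem_sup_of_le_normalizer' ((zpowers_le (G := G)).2 (nP tS))]
    refine ⟨fun ⟨p, hp, a, ha, e⟩ => ⟨p, hp, ?_⟩, fun ⟨p, hp, e⟩ => ⟨p, hp, ?_⟩⟩
    · rcases zt a ha with rfl | rfl
      exacts [.inl (by rw [← e, mul_one]), .inr e.symm]
    · rcases e with rfl | rfl
      exacts [⟨1, one_mem _, mul_one _⟩, ⟨t, mem_zpowers t, rfl⟩]
  have Kt : P ⊔ zpowers t ≤ 𝐂[t] := sup_le Pt ((zpowers_le (G := G)).2 (mem_cent1_self t))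
  have un : ∀ u ∈ P ⊔ zpowers t, orderOf u = 2 → u = t := fun u hu o => by
    obtain ⟨p, hp, rfl | rfl⟩ := (mK u).1 hu
    · exact absurd (o ▸ oX u hp) (by decide)
    · by_contra e
      have := H.ordr (oX p hp) (fun k => e (by simp [k])) ot (ct p hp).symm
      rw [ct p hp, sb_mul (oX p hp) ot (ct p hp).symm, this] at o
      have := hr.two_le
      omega
  have cK : ♯(P ⊔ zpowers t : Subgroup G) = ♯P * 2 := by
    rw [card_sup_of_inf_eq_bot ((zpowers_le (G := G)).2 (nP tS)) (inf_eq_bot_of_coprime' (by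
      rw [Nat.card_zpowers, ot]; exact piG_compl_iff_coprime.1 (H.odd pP))), Nat.card_zpowers, ot]
  obtain ⟨F, i1, i2, cF, e⟩ := BW.main (K := P ⊔ zpowers t) (t := t) (s := s)
    ⟨ot, fun u => one t u ot, mem_sup_right (mem_zpowers t), fun a ha b hb => by
      obtain ⟨p, hp, e⟩ := (mK a).1 ha
      obtain ⟨q, hq, e'⟩ := (mK b).1 hb
      have c1 : Commute p q := BW.comm_of_inv iv hp hq
      have c2 : Commute p t := ct p hp
      have c3 : Commute t q := (ct q hq).symm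
      rcases e with rfl | rfl <;> rcases e' with rfl | rfl
      exacts [c1, c1.mul_right c2, c1.mul_left c3,
        (c1.mul_left c3).mul_right (c2.mul_left (Commute.refl t))],
    un, by omega, ss, fun e => ts (un s e (H.o2 sS s1)).symm, fun a ha => by
      obtain ⟨p, hp, rfl | rfl⟩ := (mK a).1 ha
      · exact iv a hp
      · rw [← conj_mul, iv p hp, H.cm sS tS, mul_inv_cancel_right, ct p hp, mul_inv_rev,
          inv_eq_of_mul_eq_one_right tt],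
    fun g => ⟨fun e => by
      obtain ⟨p, hp, a, ha, rfl⟩ := (H2.mem_sup_of_le_normalizer' nP).1 (c1.le (mem_cent1_iff.2 e))
      rcases H.four tS sS t1 s1 ts ha with rfl | rfl | rfl | rfl
      · exact .inl ((mK _).2 ⟨p, hp, .inl (mul_one _)⟩)
      · exact .inl ((mK _).2 ⟨p, hp, .inr rfl⟩)
      · exact .inr ((mK _).2 ⟨p, hp, .inl (by rw [mul_assoc, ss, mul_one])⟩)
      · exact .inr ((mK _).2 ⟨p, hp, .inr (by rw [mul_assoc, mul_assoc, ss, mul_one])⟩),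
      fun e => mem_cent1_iff.1 (e.elim (fun e => Kt e) fun e =>
        (Subgroup.mul_mem_cancel_right _ (St sS)).1 (Kt e))⟩,
    fun a ha a1 g e => mem_cent1_iff.1 (by
      obtain ⟨p, hp, rfl | rfl⟩ := (mK a).1 ha
      · exact ti a hp a1 (mem_cent1_iff.2 e)
      · obtain ⟨m, hm⟩ := oX p hp
        have := cent1_le_cent1_pow (p * t) (orderOf p) (mem_cent1_iff.2 e)
        rwa [Commute.mul_pow (ct p hp), pow_orderOf_eq_one, one_mul, hm, pow_succ, pow_mul, sq, tt,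
          one_pow, one_mul] at this)⟩
  exact ⟨F, i1, i2, Nat.odd_iff.2 (by omega), by omega, e⟩

theorem SB [IsSimpleGroup G] (hna : ∃ a b : G, a * b ≠ b * a) (h : TT G) {r : ℕ} (hr : r.Prime) (h2 : r ≠ 2)
    {x : G} (hx : orderOf x = 2 * r) : SC G := by
  haveI := Fact.mk hr
  have ot : orderOf (x ^ r) = 2 := by
    rw [orderOf_pow_of_dvd hr.ne_zero (hx ▸ dvd_mul_left _ _), hx, Nat.mul_div_cancel _ hr.pos]
  have oy : orderOf (x ^ 2) = r := by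
    rw [orderOf_pow_of_dvd two_ne_zero (hx ▸ dvd_mul_right _ _), hx, Nat.mul_div_cancel_left _ two_pos]
  have yt : x ^ 2 ∈ 𝐂[x ^ r] := mem_cent1_iff.2 ((Commute.refl x).pow_pow 2 r)
  generalize x ^ r = t at ot yt
  generalize x ^ 2 = y at oy yt
  obtain ⟨S, tS⟩ := (isPGroup_of_card_prime (X := zpowers t) (by rw [Nat.card_zpowers, ot])).exists_le_sylow
  have hS : Syl 2 (S : Subgroup G) ⊤ := H1.sylow_isSylowIn_top S
  have eS : ∀ s ∈ (S : Subgroup G), s * s = 1 := fun s hs =>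
    sq s ▸ sb_pow hr h2 hS.isPGroup hs (sb_ord2 h hr hx)
  rcases AB' hna S (fun a ha b hb => comm_of_sq eS ha hb) (fun t o => sb_cen h fun e => by simp [e] at o)
    with k | ⟨c4, -, one⟩
  · exact ⟨sb_one k, .inl k⟩
  refine ⟨one, ?_⟩
  replace tS := tS (mem_zpowers t)
  have t1 : t ≠ 1 := fun e => by simp [e] at ot
  obtain ⟨s, sS, s1, ts⟩ : ∃ s ∈ (S : Subgroup G), s ≠ 1 ∧ t ≠ s := by
    by_contra! k
    have := card_le_of_le' (show (S : Subgroup G) ≤ zpowers t from fun a ha => by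
      by_cases e : a = 1
      exacts [e ▸ one_mem _, k a ha e ▸ mem_zpowers t])
    rw [Nat.card_zpowers] at this
    omega
  have H : SBH r x t s S := ⟨h, hr, h2, hx, hS, eS, tS, sS, t1, s1, ts, c4⟩
  refine (sb_a hna H one).imp_right fun ⟨iv, ti⟩ => .inl ⟨?_, fun d => hS.not_dvd ?_⟩
  · have nP := (le_cent1_iff.2 (H.cS tS)).trans (core_nrm {2}ᶜ 𝐂[t]).norm
    refine sb_b H one H.cen.1 (H.pgroup (core_piG _ _) nP) nP ?_ iv ti
    have := Nat.le_of_dvd (card_pos' _) (oy ▸ orderOf_dvd_natCard _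
      (H.cen.2 y yt (oy ▸ hr.odd_of_ne_two h2)))
    have := hr.two_le
    omega
  rw [← card_top, ← card_mul_relIndex (le_top : (S : Subgroup G) ≤ ⊤), c4] at d
  omega

end Cfsg.Agent.OC
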