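import Cfsg.Agent.OC.A34
import Cfsg.Agent.OC.A5
import Cfsg.Agent.OC.BE
import Cfsg.Agent.OC.La
import Cfsg.Agent.OC.Lb
import Cfsg.Agent.OC.RDb
import Cfsg.Agent.OC.SB
import Cfsg.Agent.OC.RDc1
import Cfsg.Agent.OC.RDc2

/-! The induction. -/

set_option autoImplicit false
set_option linter.unusedSectionVars false

namespace Cfsg.Agent.OC

open Subgroup Cfsg.Agent.FT Cfsg.Agent.MC

universe u
variable {G : Type u} [Group G] [Finite G]

theorem m_core [IsSimpleGroup G] (hs : ¬ Group.IsSolvable G) : pCore 2 G = ⊥ :=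
  (Normal.eq_bot_or_eq_top inferInstance).resolve_right fun e =>
    hs (sb_top (isSolvable_of_isPGroup (e ▸ L.pCore_isPGroup (G := G) 2)))

theorem SA [IsSimpleGroup G] (hna : ∃ a b : G, a * b ≠ b * a) (hc : CIT G) (hi : IH2 G) : SC G := by
  have hs : ¬ Group.IsSolvable G := fun e =>
    let ⟨a, b, k⟩ := hna; k (IsSimpleGroup.comm_iff_isSolvable.2 e a b)
  have hO := m_core hs
  rcases A3 hc hO hi (Nat.not_odd_iff_even.1 fun e => hs (odd_order_solvable e)) with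
    ⟨M, hM⟩ | ⟨V, A, q, h1, h2, ⟨rfl, -⟩ | h3⟩
  · obtain ⟨-, a, b⟩ := BE hna hc hM
    exact ⟨a, b.imp id fun b => .inr ⟨b.1, .inr (.inr b.2)⟩⟩
  · obtain ⟨a, b, c⟩ := A4 hc h1 h2
    exact ⟨a, .inr (.inr ⟨b, .inl c⟩)⟩
  · obtain ⟨rfl, a, b⟩ := A5 hc hO hi h1 h2 h3
    obtain ⟨Ω, _, 𝓛, c⟩ := La hc h1 h2 h3 a b
    obtain ⟨v, hv, v1⟩ := h1.ex
    obtain ⟨w, hw, w1⟩ := h1.symm.ex
    have m : v * w ∈ V ⊔ A := mul_mem (mem_sup_left hv) (mem_sup_right hw)
    refine ⟨b, .inr (.inr ⟨⟨v * w, orderOf_eq_prime_pow (p := 2) (n := 1) (fun e => ?_)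
      (a2_four hc h2.isPGroup m)⟩, .inr (.inl (Lb c))⟩)⟩
    rcases h1.invol m (by rwa [pow_one, sq] at e) with e | e
    · exact w1 ((V.mul_mem_cancel_left hv).1 e)
    · exact v1 ((A.mul_mem_cancel_right hw).1 e)

theorem m_main (n : ℕ) : ∀ {G : Type u} [Group G] [Finite G], Nat.card G = n → TT G →
    ¬ Group.IsSolvable G → Concl G := by
  induction n using Nat.strong_induction_on with | _ n ih => ?_
  intro G _ _ hn h hs
  by_cases hO : pCore 2 G = ⊥
  swap
  · have h1 : ¬ Group.IsSolvable (G ⧸ pCore 2 G) := fun e =>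
      haveI := isSolvable_of_isPGroup (L.pCore_isPGroup (G := G) 2)
      hs (Group.isSolvable_of_ker_le_range (pCore 2 G).subtype (QuotientGroup.mk' (pCore 2 G)) (by simp))
    rcases ih _ (by
      rw [← hn, ← (pCore 2 G).card_mul_index]
      exact lt_mul_left Nat.card_pos (one_lt_card.2 hO)) rfl (TT_quo h _) h1 with e | e
    · exact .inr ⟨hO, RDb h hs hO e.1 e.2⟩
    · exact absurd (L.pCore_quotient 2) e.1
  have ih' : ∀ H : Subgroup G, H ≠ ⊤ → ¬ Group.IsSolvable H → Concl H := fun H h1 h2 =>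
    ih _ (hn ▸ (card_top (G := G) ▸ card_lt_of_lt h1.lt_top)) rfl (TT_sub h H) h2
  have c0 : ∀ N : Subgroup G, N.Normal → core {2} N = ⊥ := fun N hN =>
    haveI := nrm_top_iff.1 ((nrm_top_iff.2 hN).core {2})
    eq_bot_iff.2 (hO ▸ L.le_pCore (core_isPGroup N))
  have c1 : ∀ H : Subgroup G, pCore 2 H ≠ ⊥ → core {2} H ≠ ⊥ := fun H e k => e (by
    rwa [core_singleton_eq, map_eq_bot_iff_of_injective _ H.subtype_injective] at k)
  have hi : IH2 G := fun H h1 h2 => ((ih' H (fun e => c1 H h1 (c0 H (e ▸ inferInstance))) h2).resolve_left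
    fun e => haveI := e.1; h1 (m_core h2)).2
  by_cases hS : IsSimpleGroup G
  · have hna : ∃ a b : G, a * b ≠ b * a := by
      by_contra! e
      exact hs (IsSimpleGroup.comm_iff_isSolvable.1 e)
    rcases TT_cit h with hc | ⟨r, hr, r2, x, hx⟩
    exacts [.inl ⟨hS, SA hna hc hi⟩, .inl ⟨hS, SB hna h hr r2 hx⟩]
  exfalso
  haveI : Nontrivial G := by
    by_contra! e
    exact hs inferInstance
  obtain ⟨N, hN, N0, N1⟩ : ∃ N : Subgroup G, N.Normal ∧ N ≠ ⊥ ∧ N ≠ ⊤ := by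
    by_contra! e
    exact hS ⟨fun N hN => or_iff_not_imp_left.2 (e N hN)⟩
  have sN : ¬ Group.IsSolvable N := fun e => by
    obtain ⟨M, m1, m2⟩ := exists_minNrm N0 (nrm_top_iff.2 hN).norm
    obtain ⟨r, hr, m3⟩ := m2.exists_abelem (isSolvable_of_le m1 e)
    haveI := nrm_top_iff.1 ⟨le_top, m2.norm⟩
    haveI := Fact.mk hr
    by_cases r2 : r = 2
    · subst r2
      exact m2.ne_bot (eq_bot_iff.2 (hO ▸ L.le_pCore m3.isPGroup))
    · exact m2.ne_bot (RDa h hs hr r2 M m3.isPGroup)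
  obtain ⟨a1, a2⟩ := (ih' N N1 sN).resolve_right fun e => c1 N e.1 (c0 N hN)
  have hC : 𝐂(N) = ⊥ := by_contra fun e => by
    obtain ⟨x, hx, x1⟩ := exists_ne_one_of_ne_bot e
    exact sN (isSolvable_of_le (le_cent1_iff.2 hx) (sb_cen h x1))
  obtain ⟨y, -, hy⟩ := exists_prime_order_of_ne_bot (H := (⊤ : Subgroup (G ⧸ N))) fun e => N1 (by
    rw [← QuotientGroup.ker_mk' N, ← MonoidHom.comap_bot, ← e, comap_top])
  have n1 : N ⊴ (zpowers y).comap (QuotientGroup.mk' N) :=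
    ⟨QuotientGroup.le_comap_mk' N _, le_normalizer_of_normal⟩
  by_cases e : (zpowers y).comap (QuotientGroup.mk' N) = ⊤
  · have e1 : N.index = orderOf y := by
      rw [← Nat.card_zpowers, ← map_comap_eq_self_of_surjective (QuotientGroup.mk'_surjective N) (zpowers y),
        e, map_top_of_surjective _ (QuotientGroup.mk'_surjective N), card_top, index]
    by_cases e2 : N.index = 2
    exacts [RDc2 h hi e2 hC a1 a2, RDc1 h (e1 ▸ hy) e2 hC a1 a2]
  rcases ih' _ e (fun k => sN (isSolvable_of_le n1.le k)) with k | k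
  · rcases k.1.eq_bot_or_eq_top_of_normal _ n1.normal with k | k
    · exact N0 (by rwa [subgroupOf_eq_bot, disjoint_iff, inf_of_le_left n1.le] at k)
    · obtain ⟨x, rfl⟩ := QuotientGroup.mk'_surjective N y
      rw [QuotientGroup.mk'_apply, (QuotientGroup.eq_one_iff x).2 (subgroupOf_eq_top.1 k (mem_zpowers _)),
        orderOf_one] at hy
      exact Nat.not_prime_one hy
  · exact c1 _ k.1 (eq_bot_iff.2 (hC ▸ le_cent_of_inf_eq_bot le_normalizer_of_normal
      (n1.le.trans (core_nrm _ _).norm) (by rw [← core_eq_of_nrm n1, c0 N hN])))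

theorem main (h : TT G) (hs : ¬ Group.IsSolvable G) : Concl G := m_main _ rfl h hs

end Cfsg.Agent.OC
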